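import Cfsg.Agent.CharBasic.Complete
import Cfsg.Agent.CharInduce.Ops
import Cfsg.Agent.CharBasic.Kernel
import Mathlib.GroupTheory.SemidirectProduct
import Mathlib.GroupTheory.Sylow

/-!
# A degree bound from freeness over a Sylow two-subgroup of an inertia group

If `χ (c u) = χ u` for two-elements `u ≠ 1` and `c` in the odd abelian normal subgroup `R` centralised
by `u`, each constituent of `χ` on `R` other than the trivial one comes with multiplicity divisible by
the two-part of its inertia group.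
-/

set_option autoImplicit false
set_option linter.style.haveILetI false

open scoped ComplexConjugate
open Finset Cfsg Cfsg.Agent.CharInduce

namespace Cfsg.Agent.H10.SECount

universe u

variable {X : Type u} [Group X] {R : Subgroup X} [R.Normal]

/-- The inertia group of a linear character of `R`. -/
def stab (θ : R →* ℂˣ) : Subgroup X where
  carrier := {x | ∀ r : R, θ (MulAut.conjNormal x r) = θ r}
  one_mem' r := by simp
  mul_mem' {a b} ha hb r := by rw [map_mul, MulAut.mul_apply, ha, hb]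
  inv_mem' {a} ha r := by
    have h := ha (MulAut.conjNormal a⁻¹ r)
    rw [← MulAut.mul_apply, ← map_mul, mul_inv_cancel, map_one, MulAut.one_apply] at h
    exact h.symm

theorem mem_stab {θ : R →* ℂˣ} {x : X} :
    x ∈ stab θ ↔ ∀ r : R, θ (MulAut.conjNormal x r) = θ r := Iff.rfl

variable [Fintype R]

/-- For `u` a two-element fixing `θ ≠ 1`, the twisted sum over `R u` vanishes. -/
theorem sum_shift_eq_zero (hcomm : ∀ a b : R, a * b = b * a) (hodd : Odd (Nat.card R))
    {χ : X → ℂ} (hχ : IsClassFunction X χ) {u : X} (hu : ∃ k, orderOf u = 2 ^ k)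
    (hconst : ∀ c : R, Commute (c : X) u → χ (c * u) = χ u) {θ : R →* ℂˣ} (hθ : θ ≠ 1) :
    ∑ r : R, χ (r * u) * conj (θ r : ℂ) = 0 := by
  set f : R → ℂ := fun r => χ (r * u) with hf
  set σ : MulAut R := MulAut.conjNormal u with hσ
  have hσval : ∀ s : R, ((σ s : R) : X) = u * s * u⁻¹ := fun s => by simp [hσ]
  have h1 : ∀ a s : R, f (a * σ s) = f (a * s) := by
    intro a s
    show χ (((a * σ s : R) : X) * u) = χ (((a * s : R) : X) * u)
    rw [← hχ (((a * σ s : R) : X) * u) s]
    congr 1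
    have hc := congrArg (fun z : R => (z : X)) (hcomm a s)
    simp only [Subgroup.coe_mul] at hc
    simp only [Subgroup.coe_mul, hσval]
    calc (s : X) * (a * (u * s * u⁻¹) * u) * (s : X)⁻¹ = (s * a) * u := by group
      _ = a * s * u := by rw [hc]
  have hi : ∀ (i : ℕ) (a s : R), f (a * (σ ^ i) s) = f (a * s) := by
    intro i
    induction i with
    | zero => intro a s; rfl
    | succ i ih => intro a s; rw [pow_succ, MulAut.mul_apply, ih, h1]
  obtain ⟨k, hk⟩ := hu
  have hσn : σ ^ 2 ^ k = 1 := by rw [hσ, ← map_pow, ← hk, pow_orderOf_eq_one, map_one]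
  letI : CommGroup R := { (inferInstance : Group R) with mul_comm := hcomm }
  have hprod : ∀ (r : R) (n : ℕ) (a : R),
      f (a * ∏ i ∈ range n, (σ ^ i) r) = f (a * r ^ n) := by
    intro r n
    induction n with
    | zero => intro a; simp
    | succ n ih =>
      intro a
      rw [prod_range_succ, ← mul_assoc, hi, mul_assoc, mul_comm _ r, ← mul_assoc, ih, pow_succ',
        ← mul_assoc]
  have hconstf : ∀ r : R, f (r ^ 2 ^ k) = χ u := by
    intro r
    rw [← one_mul (r ^ 2 ^ k), ← hprod r (2 ^ k) 1, one_mul]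
    refine hconst _ ?_
    set P := ∏ i ∈ range (2 ^ k), (σ ^ i) r with hP
    have hfixP : σ P = P := by
      rw [hP, map_prod]
      simp only [← MulAut.mul_apply, ← pow_succ']
      have e := prod_range_succ' (fun i => (σ ^ i) r) (2 ^ k)
      rw [prod_range_succ (fun i => (σ ^ i) r) (2 ^ k), hσn, pow_zero] at e
      exact (mul_right_cancel e).symm
    have h := hσval P
    rw [hfixP] at h
    show (P : X) * u = u * P
    conv_lhs => rw [h]
    group
  have hall : ∀ r : R, f r = χ u := by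
    intro r
    obtain ⟨s, hs⟩ := (powCoprime (G := R) (n := 2 ^ k)
      (Nat.Coprime.pow_right k (Nat.coprime_two_right.2 hodd))).surjective r
    rw [← hs]
    exact hconstf s
  have hz : ∑ r : R, conj (θ r : ℂ) = 0 := by
    obtain ⟨g, hg⟩ : ∃ g, θ g ≠ 1 := by
      by_contra! h
      exact hθ (MonoidHom.ext h)
    have h : conj (θ g : ℂ) * ∑ r : R, conj (θ r : ℂ) = ∑ r : R, conj (θ r : ℂ) := by
      rw [mul_sum]
      exact Fintype.sum_equiv (Equiv.mulLeft g) _ _ fun r => by simp [map_mul]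
    have hne : conj (θ g : ℂ) - 1 ≠ 0 := fun e => hg (Units.ext (by
      simpa using congrArg conj (sub_eq_zero.1 e)))
    exact (mul_eq_zero.1 (show (conj (θ g : ℂ) - 1) * ∑ r : R, conj (θ r : ℂ) = 0 by
      rw [sub_mul, h, one_mul, sub_self])).resolve_left hne
  rw [Finset.sum_congr rfl fun (r : R) _ => show χ ((r : X) * u) * conj (θ r : ℂ) = χ u * conj (θ r : ℂ) by
    rw [← hall r], ← mul_sum, hz, mul_zero]

/-- The multiplicity of `θ` in `χ` on `R` is a multiple of the order of a two-subgroup fixing `θ`. -/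
theorem exists_mult [Fintype X] (hcomm : ∀ a b : R, a * b = b * a) (hodd : Odd (Nat.card R))
    {χ : X → ℂ} (hχ : IsCharacter X χ)
    (hconst : ∀ u : X, (∃ k, orderOf u = 2 ^ k) → u ≠ 1 → ∀ c : R, Commute (c : X) u →
      χ (c * u) = χ u)
    {θ : R →* ℂˣ} (hθ : θ ≠ 1) (P : Subgroup X) (hP : IsPGroup 2 P) (hPθ : P ≤ stab θ) :
    ∃ n : ℕ, classInner (fun r : R => χ r) (fun r => (θ r : ℂ)) = (Nat.card P : ℂ) * n := by
  classical
  cases nonempty_fintype P
  let φ : P →* MulAut R := (MulAut.conjNormal (H := R)).comp P.subtype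
  let emb : R ⋊[φ] P →* X := SemidirectProduct.lift R.subtype P.subtype fun p =>
    MonoidHom.ext fun r => by simp [φ]
  let l : R ⋊[φ] P →* ℂˣ := SemidirectProduct.lift θ 1 fun p =>
    MonoidHom.ext fun r => by simpa [φ] using hPθ p.2 r
  let e : R ⋊[φ] P ≃ R × P := SemidirectProduct.equivProd
  letI : Fintype (R ⋊[φ] P) := Fintype.ofEquiv _ e.symm
  obtain ⟨n, hn⟩ := CharBasic.classInner_isChar_nat (IsChar.comp hχ emb) (isCharacter_hom l)
  refine ⟨n, ?_⟩
  have hsum : ∑ g : R ⋊[φ] P, χ (emb g) * conj (l g : ℂ) =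
      ∑ r : R, χ r * conj (θ r : ℂ) := by
    rw [Fintype.sum_equiv e (fun g => χ (emb g) * conj (l g : ℂ))
      (fun x : R × P => χ ((x.1 : X) * x.2) * conj (θ x.1 : ℂ)) (fun g => by
        simp [emb, l, e, SemidirectProduct.equivProd, SemidirectProduct.lift]),
      Fintype.sum_prod_type, sum_comm, Fintype.sum_eq_single (1 : P)]
    · simp
    · intro p hp
      obtain ⟨k, hk⟩ := hP.exists_orderOf_eq_pow p
      refine sum_shift_eq_zero hcomm hodd (CharBasic.IsChar.isClassFunction hχ)
        ⟨k, by rwa [Subgroup.orderOf_coe]⟩ (hconst _ ⟨k, by rwa [Subgroup.orderOf_coe]⟩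
          fun h => hp (Subtype.ext h)) hθ
  rw [CharBasic.classInner_def, hsum, Nat.card_congr e, Nat.card_prod, Nat.cast_mul, mul_inv,
    mul_assoc, mul_comm (Nat.card R : ℂ)⁻¹] at hn
  rw [CharBasic.classInner_def]
  have hPne : (Nat.card P : ℂ) ≠ 0 := Nat.cast_ne_zero.2 Nat.card_pos.ne'
  field_simp at hn ⊢
  linear_combination hn

/-- If `R` is not in the kernel of `χ`, the degree is at least the index of an inertia group times the
two-part of its order. -/
theorem exists_stab_index_mul_le [Fintype X] (hcomm : ∀ a b : R, a * b = b * a)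
    (hodd : Odd (Nat.card R)) {χ : X → ℂ} (hχ : IsCharacter X χ)
    (hconst : ∀ u : X, (∃ k, orderOf u = 2 ^ k) → u ≠ 1 → ∀ c : R, Commute (c : X) u →
      χ (c * u) = χ u)
    (hker : ∃ r : R, χ r ≠ χ 1) {d : ℕ} (hd : χ 1 = d) :
    ∃ θ : R →* ℂˣ, θ ≠ 1 ∧
      (stab θ).index * 2 ^ (Nat.card (stab θ)).factorization 2 ≤ d := by
  classical
  have hR : ∀ ψ : IrrCharacter R, (ψ : R → ℂ) 1 = 1 :=
    CharBasic.commutative_iff_forall_linear.1 hcomm
  choose lin hlin using fun ψ : IrrCharacter R =>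
    IsChar.exists_hom_of_degree_one (CharBasic.IsIrr.isCharacter ψ.2) (hR ψ)
  have hres : IsCharacter R (fun r : R => χ r) := IsChar.res hχ R
  choose mult hmult using fun ψ : IrrCharacter R =>
    CharBasic.classInner_isChar_nat hres (CharBasic.IsIrr.isCharacter ψ.2)
  have hexp := CharBasic.classFunction_expansion (CharBasic.IsChar.isClassFunction hres)
  have hval : ∀ r : R, χ r = ∑ ψ : IrrCharacter R, (mult ψ : ℂ) * (ψ : R → ℂ) r := by
    intro r
    rw [show χ r = (fun r : R => χ r) r from rfl, hexp]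
    simp [hmult]
  obtain ⟨ψ₀, hψ₀, hne⟩ : ∃ ψ : IrrCharacter R, mult ψ ≠ 0 ∧ lin ψ ≠ 1 := by
    by_contra! h
    obtain ⟨r, hr⟩ := hker
    refine hr ?_
    show χ (r : X) = χ ((1 : R) : X)
    rw [hval r, hval 1]
    refine sum_congr rfl fun ψ _ => ?_
    by_cases h0 : mult ψ = 0
    · simp [h0]
    · rw [hlin ψ r, hlin ψ 1, h ψ h0]
      rfl
  set θ := lin ψ₀
  refine ⟨θ, hne, ?_⟩
  obtain ⟨P⟩ : Nonempty (Sylow 2 (stab θ)) := inferInstance
  have : Fact (Nat.Prime 2) := ⟨Nat.prime_two⟩
  set P' := (P : Subgroup (stab θ)).map (stab θ).subtype with hP'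
  have hP2 : IsPGroup 2 P' := P.isPGroup'.map _
  obtain ⟨n, hn⟩ := exists_mult hcomm hodd hχ hconst hne P' hP2 (Subgroup.map_subtype_le _)
  rw [← funext (hlin ψ₀), hmult] at hn
  have hn' : mult ψ₀ = Nat.card P' * n := by exact_mod_cast hn
  have hcardP : Nat.card P' = 2 ^ (Nat.card (stab θ)).factorization 2 := by
    rw [hP', Subgroup.card_map_of_injective (Subgroup.subtype_injective _),
      Sylow.card_eq_multiplicity]
  have hmpos : Nat.card P' ≤ mult ψ₀ := by
    rw [hn']
    rcases Nat.eq_zero_or_pos n with h | h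
    · exact absurd (by rw [hn', h, mul_zero]) hψ₀
    · exact Nat.le_mul_of_pos_right _ h
  have hdeg : ∑ ψ : IrrCharacter R, mult ψ = d := by
    have h := hval 1
    simp only [hR, mul_one, OneMemClass.coe_one, hd] at h
    exact_mod_cast h.symm
  -- conjugates of `θ` have the same multiplicity
  let conjθ : X → (R →* ℂˣ) := fun x => θ.comp (MulAut.conjNormal x).toMonoidHom
  let Ψ : X → IrrCharacter R := fun x => ⟨_, isIrrCharacter_hom (conjθ x)⟩
  have hΨm : ∀ x, mult (Ψ x) = mult ψ₀ := by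
    intro x
    have h1 := hmult (Ψ x)
    have h2 := hmult ψ₀
    rw [CharBasic.classInner_def] at h1 h2
    suffices h : ((mult (Ψ x) : ℂ)) = mult ψ₀ by exact_mod_cast h
    rw [← h1, ← h2]
    congr 1
    refine Fintype.sum_equiv (MulAut.conjNormal x : MulAut R).toEquiv _ _ fun r => ?_
    rw [hlin ψ₀]
    simp only [Ψ, conjθ, MonoidHom.comp_apply, MulEquiv.toEquiv_eq_coe, MulEquiv.coe_toEquiv,
      MulEquiv.coe_toMonoidHom, MulAut.conjNormal_apply]
    rw [CharBasic.IsChar.isClassFunction hχ (r : X) x]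
  have hsum : #(univ.image Ψ) * mult ψ₀ ≤ d := by
    rw [← hdeg, ← smul_eq_mul, ← sum_const]
    calc ∑ _ψ ∈ univ.image Ψ, mult ψ₀ = ∑ ψ ∈ univ.image Ψ, mult ψ := by
          refine sum_congr rfl fun ψ hψ => ?_
          obtain ⟨x, -, rfl⟩ := mem_image.1 hψ
          rw [hΨm x]
      _ ≤ _ := sum_le_sum_of_subset (subset_univ _)
  have hidx : (stab θ).index ≤ #(univ.image Ψ) := by
    rw [Subgroup.index, ← Fintype.card_coe, ← Nat.card_eq_fintype_card]
    refine Nat.card_le_card_of_injective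
      (fun q : X ⧸ stab θ => (⟨Ψ (Quotient.out q)⁻¹, mem_image_of_mem _ (mem_univ _)⟩ :
        univ.image Ψ)) fun q q' hqq => ?_
    have h := congrArg (fun z : univ.image Ψ => ((z : IrrCharacter R) : R → ℂ)) hqq
    simp only [Ψ] at h
    rw [← QuotientGroup.out_eq' q, ← QuotientGroup.out_eq' q', QuotientGroup.eq]
    intro r
    set a := Quotient.out q
    set b := Quotient.out q'
    have h' := congrFun h (MulAut.conjNormal b r)
    simp only [Units.val_inj, conjθ, MonoidHom.comp_apply, MulEquiv.coe_toMonoidHom,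
      ← MulAut.mul_apply, ← map_mul, inv_mul_cancel, map_one, MulAut.one_apply] at h'
    exact h'
  calc (stab θ).index * 2 ^ _ = (stab θ).index * Nat.card P' := by rw [hcardP]
    _ ≤ #(univ.image Ψ) * mult ψ₀ := Nat.mul_le_mul hidx hmpos
    _ ≤ d := hsum

end Cfsg.Agent.H10.SECount
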