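import Cfsg.Agent.H10.SECount.Blocks
import Cfsg.Agent.H10.SECount.Degree

/-!
# The two-singular count in a strongly embedded subgroup

With `m` involutions in `H`, `s` elements of even order in `H`, `n = |H|` and `N = |G : H|`, an odd
abelian normal subgroup `R` of `H` outside the kernels of the non-trivial characters, whose linear
characters have inertia groups with odd part at most `σ |W|`, gives
`m² (s N - n)² ≤ σ² N² s (n - s)`, which is false for `σ = 1` and for `σ² ≤ m + 2`.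
-/

set_option autoImplicit false

open scoped ComplexConjugate
open Finset Cfsg

namespace Cfsg.Agent.H10.SECount

universe u

variable {G : Type u} [Group G] [Fintype G] {H W R : Subgroup G} {t : G} {M : Ideal AlgInt}

local notation "C(" u ")" => Subgroup.centralizer ({u} : Set _)

/-- A non-trivial character of the principal block has degree at least `|H| / (σ |W|)`. -/
theorem card_le_degree (S : Setting H t) (D : Core H W M) (hM : IsPModular 2 M) (hRW : R ≤ W)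
    (hRn : ∀ h ∈ H, ∀ r ∈ R, h * r * h⁻¹ ∈ R) (hRc : ∀ a ∈ R, ∀ b ∈ R, a * b = b * a) {σ : ℕ}
    (hσ : ∀ [(R.subgroupOf H).Normal], ∀ θ : R.subgroupOf H →* ℂˣ, θ ≠ 1 →
      ordCompl[2] (Nat.card (stab θ)) ≤ σ * Nat.card W)
    {χ : IrrCharacter G} (hχ : χ ∈ principalBlock M G)
    (hker : ∃ r ∈ R, (χ : G → ℂ) r ≠ (χ : G → ℂ) 1) {d : ℕ} (hd : (χ : G → ℂ) 1 = d) :
    Nat.card H ≤ σ * Nat.card W * d := by
  classical
  set R' := R.subgroupOf H with hR'
  have : R'.Normal := ⟨fun r hr h => hRn _ h.2 _ hr⟩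
  have hcomm : ∀ a b : R', a * b = b * a := fun a b =>
    Subtype.ext (Subtype.ext (hRc _ a.2 _ b.2))
  have hodd : Odd (Nat.card R') := by
    refine Odd.of_dvd_nat D.odd ?_
    exact Subgroup.card_dvd_of_injective
      (H.subtype.comp R'.subtype |>.codRestrict W fun x => hRW x.2)
      fun a b e => Subtype.ext (Subtype.ext (congrArg (fun z : W => (z : G)) e))
  obtain ⟨r, hr, hne⟩ := hker
  obtain ⟨θ, hθ, hle⟩ := exists_stab_index_mul_le (X := ↥H) (R := R') hcomm hodd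
    (χ := fun h : H => (χ : G → ℂ) h) (CharInduce.IsChar.res (CharBasic.IsIrr.isCharacter χ.2) H)
    (fun u hu hu1 c hc => by
      obtain ⟨k, hk⟩ := hu
      have hc' : Commute ((c : H) : G) (u : G) := hc.map H.subtype
      have h := D.principal_apply_mul S hM u.2 ⟨k, by rwa [Subgroup.orderOf_coe]⟩
        (fun e => hu1 (Subtype.ext e)) hχ (hRW c.2) hc'
      show (χ : G → ℂ) (((c : H) : G) * (u : G)) = _
      rw [hc'.eq]
      exact h)
    ⟨⟨⟨r, D.le (hRW hr)⟩, hr⟩, hne⟩ hd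
  calc Nat.card H = (stab θ).index * Nat.card (stab θ) := (Subgroup.index_mul_card _).symm
    _ = (stab θ).index * 2 ^ (Nat.card (stab θ)).factorization 2 * ordCompl[2] (Nat.card (stab θ)) := by
        rw [mul_assoc, Nat.ordProj_mul_ordCompl_eq_self]
    _ ≤ d * (σ * Nat.card W) := Nat.mul_le_mul hle (hσ θ hθ)
    _ = _ := by ring

open scoped Classical in
/-- The master inequality. -/
theorem count_le (S : Setting H t) (D : Core H W M) (hM : IsPModular 2 M) (htW : W ≤ C(t))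
    (hRW : R ≤ W) (hRn : ∀ h ∈ H, ∀ r ∈ R, h * r * h⁻¹ ∈ R)
    (hRc : ∀ a ∈ R, ∀ b ∈ R, a * b = b * a)
    (hker : ∀ χ : IrrCharacter G, (χ : G → ℂ) ≠ (fun _ => 1) →
      ∃ r ∈ R, (χ : G → ℂ) r ≠ (χ : G → ℂ) 1) {σ : ℕ}
    (hσ : ∀ [(R.subgroupOf H).Normal], ∀ θ : R.subgroupOf H →* ℂˣ, θ ≠ 1 →
      ordCompl[2] (Nat.card (stab θ)) ≤ σ * Nat.card W)
    (hs : Nat.card H ≤ #(sing H) * H.index) :
    ((#(invs H) : ℝ)) ^ 2 * ((#(sing H) : ℝ) * H.index - Nat.card H) ^ 2 ≤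
      (σ : ℝ) ^ 2 * (H.index : ℝ) ^ 2 * (#(sing H) * ((Nat.card H : ℝ) - #(sing H))) := by
  set s := #(sing H) with hsdef
  set m := #(invs H) with hmdef
  set n := Nat.card H with hndef
  set N := H.index with hNdef
  set sv : IrrCharacter G → ℂ := fun χ => ∑ h ∈ sing H, (χ : G → ℂ) h with hsv
  have ht1 : t ≠ 1 := fun e => by have := S.t_ord; simp [e] at this
  have htinv : t⁻¹ = t := inv_eq_of_mul_eq_one_right (by rw [← sq, ← S.t_ord, pow_orderOf_eq_one])
  -- the class product identity, summed over `sing H`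
  set P := ∑ h ∈ sing H, Nat.card {a : G // IsConj t a ∧ IsConj t (a⁻¹ * h)} with hP
  have hPm : P ≤ m ^ 2 := S.sum_pairs_le
  have hid : (Nat.card G : ℂ) * P = ((C(t) : Subgroup G).index : ℂ) ^ 2 *
      ∑ χ : IrrCharacter G, conj ((χ : G → ℂ) t) ^ 2 / (χ : G → ℂ) 1 * sv χ := by
    rw [hP, Nat.cast_sum, mul_sum]
    simp only [H83.card_pairs_mul_card, hsv, mul_sum]
    rw [sum_comm]
    exact sum_congr rfl fun χ _ => sum_congr rfl fun h _ => by ring
  have hCn : m * Nat.card (C(t) : Subgroup G) = n := S.card_invs_mul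
  have hidx : (C(t) : Subgroup G).index = N * m := by
    have h1 := (C(t) : Subgroup G).index_mul_card
    have h2 := H.index_mul_card
    rw [← h2, ← hndef, ← hCn, ← mul_assoc, ← hNdef] at h1
    exact Nat.eq_of_mul_eq_mul_right Nat.card_pos h1
  have hm0 : 0 < m := card_pos.2 ⟨t, mem_invs.2 ⟨S.t_mem, S.t_ord⟩⟩
  have hn0 : 0 < n := Nat.card_pos
  have hN0 : 0 < N := Nat.pos_of_ne_zero H.index_ne_zero_of_finite
  -- only the principal block contributes
  set B0 := univ.filter fun χ : IrrCharacter G => χ ∈ principalBlock M G with hB0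
  have hB : ∑ χ ∈ B0, conj ((χ : G → ℂ) t) ^ 2 / (χ : G → ℂ) 1 * sv χ =
      ((n : ℝ) * P / ((N : ℝ) * (m : ℝ) ^ 2) : ℝ) := by
    rw [hB0, sum_filter_of_ne fun χ _ hne => ?_]
    · rw [hidx, ← H.index_mul_card, ← hndef, ← hNdef] at hid
      push_cast at hid ⊢
      have hN' : (N : ℂ) ≠ 0 := Nat.cast_ne_zero.2 hN0.ne'
      have hm' : (m : ℂ) ≠ 0 := Nat.cast_ne_zero.2 hm0.ne'
      rw [eq_div_iff (mul_ne_zero hN' (pow_ne_zero 2 hm'))]
      have h3 : (N : ℂ) * ((n : ℂ) * P) = (N : ℂ) * ((N : ℂ) * m ^ 2 *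
          ∑ χ : IrrCharacter G, conj ((χ : G → ℂ) t) ^ 2 / (χ : G → ℂ) 1 * sv χ) := by
        linear_combination hid
      have h4 := mul_left_cancel₀ hN' h3
      linear_combination -h4
    · by_contra hχ
      exact hne (by rw [show sv χ = 0 from D.sum_sing S hM hχ, mul_zero])
  set one : IrrCharacter G := ⟨fun _ => 1, CharBasic.isIrrCharacter_one⟩ with hone
  have hone0 : one ∈ B0 := mem_filter.2 ⟨mem_univ _, BlockBasic.self_mem_blockOf hM one⟩
  have hsv1 : sv one = s := by simp [hsv, hone, hsdef]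
  rw [← add_sum_erase _ _ hone0, hsv1] at hB
  set B1 := B0.erase one with hB1
  -- degrees
  have hdeg : ∀ χ ∈ B1, ∃ d : ℕ, 0 < d ∧ (χ : G → ℂ) 1 = d ∧ n ≤ σ * Nat.card W * d := by
    intro χ hχ
    obtain ⟨hne, hmem⟩ := mem_erase.1 hχ
    obtain ⟨d, hd0, hd, -⟩ := CharBasic.IsIrr.degree_dvd χ.2
    exact ⟨d, hd0, hd, card_le_degree S D hM hRW hRn hRc hσ (mem_filter.1 hmem).2
      (hker χ fun e => hne (Subtype.ext e)) hd⟩
  set a : IrrCharacter G → ℝ := fun χ => ‖(χ : G → ℂ) t‖ ^ 2 with ha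
  set c := ((W.subgroupOf C(t)).index : ℕ) with hc
  have hcW : c * Nat.card W * m = n := by
    rw [← hCn, mul_comm m, hc, ← Nat.card_congr (Subgroup.subgroupOfEquivOfLe htW).toEquiv,
      Subgroup.index_mul_card]
  set x := ∑ χ ∈ B1, a χ * ‖sv χ‖ with hx
  have hlhs : (s : ℝ) - (n : ℝ) / N ≤ (σ * Nat.card W : ℝ) / n * x := by
    have hPr : (n : ℝ) * P / ((N : ℝ) * (m : ℝ) ^ 2) ≤ (n : ℝ) / N := by
      rw [div_le_div_iff₀ (by positivity) (by positivity)]
      have : (P : ℝ) ≤ (m : ℝ) ^ 2 := by exact_mod_cast hPm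
      have h1 : (0 : ℝ) ≤ (n : ℝ) * N := by positivity
      nlinarith [mul_le_mul_of_nonneg_left this h1]
    have h1 : ((s : ℝ) - (n : ℝ) * P / ((N : ℝ) * (m : ℝ) ^ 2)) ≤
        ‖∑ χ ∈ B1, conj ((χ : G → ℂ) t) ^ 2 / (χ : G → ℂ) 1 * sv χ‖ := by
      have h2 : ∑ χ ∈ B1, conj ((χ : G → ℂ) t) ^ 2 / (χ : G → ℂ) 1 * sv χ =
          -((((s : ℝ) - (n : ℝ) * P / ((N : ℝ) * (m : ℝ) ^ 2) : ℝ)) : ℂ) := by
        simp only [hone, map_one, one_pow, div_one, one_mul] at hB
        push_cast at hB ⊢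
        linear_combination hB
      rw [h2, norm_neg, Complex.norm_real]
      exact le_abs_self _
    refine le_trans (by linarith) (le_trans (norm_sum_le _ _) ?_)
    rw [hx, mul_sum]
    refine sum_le_sum fun χ hχ => ?_
    obtain ⟨d, hd0, hd, hnd⟩ := hdeg χ hχ
    rw [norm_mul, norm_div, norm_pow, Complex.norm_conj, hd, Complex.norm_natCast, ha,
      div_mul_eq_mul_div, div_mul_eq_mul_div, div_le_div_iff₀ (by positivity) (by positivity)]
    have hnd' : (n : ℝ) ≤ σ * Nat.card W * d := by exact_mod_cast hnd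
    have h0 : (0 : ℝ) ≤ ‖(χ : G → ℂ) t‖ ^ 2 * ‖sv χ‖ := by positivity
    nlinarith [mul_le_mul_of_nonneg_left hnd' h0]
  -- Cauchy, the column at `t` and Bessel
  have hsum_a : ∑ χ ∈ B1, a χ ≤ c := by
    refine le_trans ?_ (D.column_le S hM)
    exact sum_le_sum_of_subset_of_nonneg (fun χ hχ => (mem_erase.1 hχ).2) fun χ _ _ => by positivity
  have hbes : ∑ χ ∈ B1, ‖sv χ‖ ^ 2 ≤ (s : ℝ) * ((n : ℝ) - s) := by
    have hall : (∑ χ : IrrCharacter G, ‖sv χ‖ ^ 2 : ℝ) ≤ (s : ℝ) * n := by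
      have h1 : ((∑ χ : IrrCharacter G, ‖sv χ‖ ^ 2 : ℝ) : ℂ) =
          ((∑ h ∈ sing H, ∑ h' ∈ sing H, Nat.card {y : G // y * h' * y⁻¹ = h} : ℕ) : ℂ) := by
        push_cast
        simp only [← CharBasic.second_orthogonality_count, ← Complex.mul_conj', hsv, map_sum,
          sum_mul, mul_sum]
        rw [sum_comm]
        conv_rhs => rw [sum_comm]
        exact sum_congr rfl fun h _ => sum_comm
      rw [← Complex.ofReal_natCast, Complex.ofReal_inj] at h1
      rw [h1]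
      have h2 : ∀ h ∈ sing H, ∑ h' ∈ sing H, Nat.card {y : G // y * h' * y⁻¹ = h} ≤ n := by
        intro h hh
        simp only [Nat.card_eq_fintype_card, Fintype.card_subtype]
        rw [← card_sigma, hndef, Nat.card_eq_fintype_card, Fintype.card_subtype]
        refine card_le_card_of_injOn (fun z => z.2) (fun z hz => ?_) (fun z hz z' hz' e => ?_)
        · obtain ⟨h1, h2⟩ := mem_sigma.1 (mem_coe.1 hz)
          obtain ⟨hz1, hz2⟩ := mem_sing.1 h1
          refine mem_coe.2 (mem_filter.2 ⟨mem_univ _, S.mem_of_singular hz1 hz2 ?_⟩)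
          rw [(mem_filter.1 h2).2]
          exact (mem_sing.1 hh).1
        · have e1 := (mem_filter.1 (mem_sigma.1 (mem_coe.1 hz)).2).2
          have e2 := (mem_filter.1 (mem_sigma.1 (mem_coe.1 hz')).2).2
          simp only at e
          refine Sigma.ext ?_ (heq_of_eq e)
          rw [e] at e1
          simpa using e1.trans e2.symm
      exact_mod_cast (sum_le_card_nsmul _ _ _ h2).trans (by rw [smul_eq_mul])
    have h1 : ‖sv one‖ ^ 2 + ∑ χ ∈ B1, ‖sv χ‖ ^ 2 ≤ ∑ χ : IrrCharacter G, ‖sv χ‖ ^ 2 := by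
      rw [hB1, add_sum_erase B0 (fun χ => ‖sv χ‖ ^ 2) hone0]
      exact sum_le_sum_of_subset_of_nonneg (subset_univ _) fun χ _ _ => by positivity
    rw [hsv1, Complex.norm_natCast] at h1
    nlinarith
  have hcs : x ^ 2 ≤ (c : ℝ) ^ 2 * ((s : ℝ) * ((n : ℝ) - s)) := by
    calc x ^ 2 ≤ (∑ χ ∈ B1, a χ ^ 2) * ∑ χ ∈ B1, ‖sv χ‖ ^ 2 := sum_mul_sq_le_sq_mul_sq _ _ _
      _ ≤ (c : ℝ) ^ 2 * ((s : ℝ) * ((n : ℝ) - s)) := by
          refine mul_le_mul ?_ hbes (sum_nonneg fun _ _ => by positivity) (by positivity)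
          calc ∑ χ ∈ B1, a χ ^ 2 ≤ (∑ χ ∈ B1, a χ) ^ 2 :=
                sum_sq_le_sq_sum_of_nonneg fun _ _ => by positivity
            _ ≤ _ := by
                refine pow_le_pow_left₀ (sum_nonneg fun _ _ => by positivity) hsum_a 2
  -- assembling
  have hnR : (0 : ℝ) < n := by exact_mod_cast hn0
  have hsN : (n : ℝ) ≤ (s : ℝ) * N := by exact_mod_cast hs
  have hcWR : (c : ℝ) * Nat.card W * m = n := by exact_mod_cast hcW
  have h5 : (m : ℝ) * ((s : ℝ) * N - n) * c ≤ (σ : ℝ) * N * x := by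
    have h6 : ((s : ℝ) - (n : ℝ) / N) * ((m : ℝ) * N * c) ≤
        (σ * Nat.card W : ℝ) / n * x * ((m : ℝ) * N * c) :=
      mul_le_mul_of_nonneg_right hlhs (by positivity)
    have h7 : (σ * Nat.card W : ℝ) / n * x * ((m : ℝ) * N * c) = (σ : ℝ) * N * x := by
      field_simp
      rw [← hcWR]
      ring
    have h8 : ((s : ℝ) - (n : ℝ) / N) * ((m : ℝ) * N * c) = (m : ℝ) * ((s : ℝ) * N - n) * c := by
      have : (N : ℝ) ≠ 0 := by exact_mod_cast hN0.ne'
      field_simp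
    linarith
  have hc0 : (0 : ℝ) < c := by
    have : 0 < c := Nat.pos_of_ne_zero fun h => by rw [h, zero_mul, zero_mul] at hcW; omega
    exact_mod_cast this
  have h9 := pow_le_pow_left₀ (mul_nonneg (mul_nonneg (by positivity) (by linarith)) hc0.le) h5 2
  have h10 : ((σ : ℝ) * N * x) ^ 2 ≤ ((σ : ℝ) * N) ^ 2 * ((c : ℝ) ^ 2 * ((s : ℝ) * ((n : ℝ) - s))) := by
    rw [mul_pow]
    exact mul_le_mul_of_nonneg_left hcs (by positivity)
  refine le_of_mul_le_mul_right ?_ (pow_pos hc0 2)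
  calc _ = ((m : ℝ) * ((s : ℝ) * N - n) * c) ^ 2 := by ring
    _ ≤ _ := h9.trans h10
    _ = _ := by ring

/-- The arithmetic for `σ = 1`. -/
theorem arith_one {m s n N : ℝ} (h : m ^ 2 * (s * N - n) ^ 2 ≤ N ^ 2 * (s * (n - s)))
    (e1 : n ≤ (m + 1) * s) (e2 : 3 * (m + 1) ≤ N) (e3 : 3 ≤ m) (e4 : 1 ≤ s) : False := by
  have hN : 0 < N := by linarith
  have hs : 0 < s := by linarith
  have hm : 0 < m := by linarith
  have hk : 2 / 3 * (s * N) ≤ s * N - n := by
    nlinarith [mul_le_mul_of_nonneg_left e2 hs.le]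
  have hk2 : m ^ 2 * (2 / 3 * (s * N)) ^ 2 ≤ N ^ 2 * (s * (m * s)) := by
    calc m ^ 2 * (2 / 3 * (s * N)) ^ 2 ≤ m ^ 2 * (s * N - n) ^ 2 := by gcongr
      _ ≤ N ^ 2 * (s * (n - s)) := h
      _ ≤ _ := by gcongr; linarith
  have hk3 : 4 / 9 * m * (N ^ 2 * s ^ 2 * m) ≤ 1 * (N ^ 2 * s ^ 2 * m) := by linarith
  have := le_of_mul_le_mul_right hk3 (by positivity)
  linarith

/-- The arithmetic for a larger inertia group. -/
theorem arith_big {M σ s n N y : ℝ}
    (h : M ^ 2 * (s * N - n) ^ 2 ≤ σ ^ 2 * N ^ 2 * (s * (n - s)))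
    (e1 : 2 * n ≤ (M + 1) * s + (M + 3) * y) (e2 : M * σ * y ≤ n)
    (e3 : (2 * M + 1) * (M + 1) ≤ N) (e4 : 7 ≤ M) (e5 : 3 ≤ σ) (e6 : σ ^ 2 ≤ M + 2) (e7 : 1 ≤ s)
    (e8 : 0 ≤ y) (e8' : s ≤ n) : False := by
  have hs : 0 < s := by linarith
  have hM : 0 < M := by linarith
  have hN : 0 < N := by nlinarith
  have u0 : 21 * (M + 3) * y ≤ 10 * (M * σ) * y := by
    refine mul_le_mul_of_nonneg_right ?_ e8
    nlinarith [mul_le_mul_of_nonneg_left e5 hM.le]
  have e9 : 32 * n ≤ 21 * (M + 1) * s := by linarith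
  have e10 : 21 * (s * N) ≤ 22 * (s * N - n) := by
    have u1 : s * ((2 * M + 1) * (M + 1)) ≤ s * N := mul_le_mul_of_nonneg_left e3 hs.le
    have u2 : 0 ≤ (M + 1) * s := by positivity
    nlinarith [mul_le_mul_of_nonneg_left e4 u2]
  have e11 : M ^ 2 * (21 / 22 * (s * N)) ^ 2 ≤ (M + 2) * N ^ 2 * (s * (n - s)) := by
    calc M ^ 2 * (21 / 22 * (s * N)) ^ 2 ≤ M ^ 2 * (s * N - n) ^ 2 := by gcongr; linarith
      _ ≤ _ := h
      _ ≤ _ := by
        have : 0 ≤ n - s := by linarith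
        gcongr
  have e12 : (21 / 22) ^ 2 * M ^ 2 * (N ^ 2 * s ^ 2) ≤
      (M + 2) * (21 / 32 * (M + 1) - 1) * (N ^ 2 * s ^ 2) := by
    calc (21 / 22) ^ 2 * M ^ 2 * (N ^ 2 * s ^ 2) = M ^ 2 * (21 / 22 * (s * N)) ^ 2 := by ring
      _ ≤ (M + 2) * N ^ 2 * (s * (n - s)) := e11
      _ ≤ (M + 2) * N ^ 2 * (s * (21 / 32 * (M + 1) * s - s)) := by gcongr; linarith
      _ = _ := by ring
  have e13 := le_of_mul_le_mul_right e12 (by positivity)
  nlinarith [mul_le_mul_of_nonneg_left e4 hM.le]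

/-- The count is contradictory when the inertia groups have trivial odd part modulo `W`, or odd part
`σ` with `σ ^ 2 ≤ m + 2` and the centraliser of all involutions small. -/
theorem false_of_count (S : Setting H t) (D : Core H W M) (hM : IsPModular 2 M) (htW : W ≤ C(t))
    (hRW : R ≤ W) (hRn : ∀ h ∈ H, ∀ r ∈ R, h * r * h⁻¹ ∈ R)
    (hRc : ∀ a ∈ R, ∀ b ∈ R, a * b = b * a)
    (hker : ∀ χ : IrrCharacter G, (χ : G → ℂ) ≠ (fun _ => 1) →
      ∃ r ∈ R, (χ : G → ℂ) r ≠ (χ : G → ℂ) 1) {σ : ℕ}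
    (hσ : ∀ [(R.subgroupOf H).Normal], ∀ θ : R.subgroupOf H →* ℂˣ, θ ≠ 1 →
      ordCompl[2] (Nat.card (stab θ)) ≤ σ * Nat.card W)
    (hm : 3 ≤ #(invs H)) (hN : 3 * (#(invs H) + 1) ≤ H.index)
    (hcase : σ = 1 ∨ (7 ≤ #(invs H) ∧ 3 ≤ σ ∧ σ ^ 2 ≤ #(invs H) + 2 ∧
      (2 * #(invs H) + 1) * (#(invs H) + 1) ≤ H.index ∧
      ∃ Y : Subgroup G, (∀ h ∈ H, (∀ i ∈ invs H, Commute h i) → h ∈ Y) ∧
        #(invs H) * σ * Nat.card Y ≤ Nat.card H)) :
    False := by
  classical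
  have hb := S.card_le'
  have hsN : Nat.card H ≤ #(sing H) * H.index := by
    calc Nat.card H ≤ (#(invs H) + 1) * #(sing H) := hb
      _ ≤ H.index * #(sing H) := Nat.mul_le_mul_right _ (by omega)
      _ = _ := mul_comm _ _
  have h := count_le S D hM htW hRW hRn hRc hker hσ hsN
  have hs0 : 0 < #(sing H) := card_pos.2 ⟨t, invs_subset_sing (mem_invs.2 ⟨S.t_mem, S.t_ord⟩)⟩
  have hlt : #(sing H) ≤ Nat.card H := by
    rw [Nat.card_eq_fintype_card, Fintype.card_subtype]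
    exact card_le_card fun x hx => mem_filter.2 ⟨mem_univ _, (mem_sing.1 hx).1⟩
  rcases hcase with rfl | ⟨hm7, hσ3, hσ2, hN2, Y, hY, hYc⟩
  · exact arith_one (m := (#(invs H) : ℝ)) (s := (#(sing H) : ℝ)) (n := (Nat.card H : ℝ))
      (N := (H.index : ℝ)) (by simpa using h) (by exact_mod_cast hb) (by exact_mod_cast hN)
      (by exact_mod_cast hm) (by exact_mod_cast hs0)
  · set m := #(invs H) with hm'
    set K := (m - 1) / 2 with hK
    have hK2 : ∀ g ∈ sing H, g ∉ (univ.filter fun g : G => g ∈ Y) → ∀ T : Finset G,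
        (∀ i ∈ T, i ∈ invs H ∧ Commute g i) → #T ≤ K := by
      intro g hg hgY T hT
      obtain ⟨i, hi, hgi⟩ : ∃ i ∈ invs H, ¬ Commute g i := by
        by_contra! hall
        exact hgY (mem_filter.2 ⟨mem_univ _, hY g (mem_sing.1 hg).1 hall⟩)
      have hmap : ∀ x ∈ insert 1 T, x * i ∈ invs H \ T := by
        intro x hx
        have hxi : x * i ∈ invs H := by
          rcases mem_insert.1 hx with rfl | hxT
          · simpa using hi
          obtain ⟨hx', hgx⟩ := hT x hxT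
          obtain ⟨hxH, hxo⟩ := mem_invs.1 hx'
          obtain ⟨hiH, hio⟩ := mem_invs.1 hi
          refine mem_invs.2 ⟨mul_mem hxH hiH, ?_⟩
          refine orderOf_eq_prime ?_ fun e => hgi ?_
          · rw [(S.comm x hxH i hiH hxo hio).mul_pow, ← hxo, pow_orderOf_eq_one, hxo, ← hio,
              pow_orderOf_eq_one, one_mul]
          · rw [eq_inv_of_mul_eq_one_right e]
            exact hgx.inv_right
        refine mem_sdiff.2 ⟨hxi, fun hxiT => hgi ?_⟩
        have h1 := (hT _ hxiT).2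
        rcases mem_insert.1 hx with rfl | hxT
        · simpa using h1
        · simpa using (hT x hxT).2.inv_right.mul_right h1
      have h1 := card_le_card_of_injOn (· * i) hmap (fun a _ b _ e => mul_right_cancel e)
      rw [card_insert_of_notMem (fun h1 => by simpa using (mem_invs.1 (hT 1 h1).1).2),
        card_sdiff_of_subset (fun x hx => (hT x hx).1)] at h1
      omega
    have hcount := S.card_le hK2
    rw [show #(univ.filter fun g : G => g ∈ Y) = Nat.card Y by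
      rw [Nat.card_eq_fintype_card, Fintype.card_subtype]] at hcount
    have hKm : 2 * K + 1 ≤ m ∧ m ≤ 2 * K + 2 := by omega
    have e0 : 2 * Nat.card H ≤ (m + 1) * #(sing H) + (m + 3) * Nat.card Y := by
      have u1 : 2 * (K + 1) ≤ m + 1 := by omega
      have u2 : 2 * (m - K) ≤ m + 3 := by omega
      nlinarith [Nat.mul_le_mul_right #(sing H) u1, Nat.mul_le_mul_right (Nat.card Y) u2]
    exact arith_big (M := (m : ℝ)) (σ := (σ : ℝ)) (y := (Nat.card Y : ℝ)) h
      (by exact_mod_cast e0) (by exact_mod_cast hYc) (by exact_mod_cast hN2)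
      (by exact_mod_cast hm7) (by exact_mod_cast hσ3) (by exact_mod_cast hσ2)
      (by exact_mod_cast hs0) (Nat.cast_nonneg _) (by exact_mod_cast hlt)

end Cfsg.Agent.H10.SECount
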