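import Cfsg.Agent.CharBasic.Complete
import Cfsg.Agent.CharBasic.Kernel
import Cfsg.Agent.H83.ClassConst
import Cfsg.Agent.BlockBasic.PPart

/-!
# Counting two-singular elements in a strongly embedded subgroup

`H` has all its two-singular elements in a TI set and its involutions commute and are conjugate.
An element of `H` of even order which is no involution is then no product of two conjugates of `t`.
-/

set_option autoImplicit false

open scoped ComplexConjugate
open Finset

namespace Cfsg.Agent.H10.SECount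

universe u

variable {G : Type u} [Group G]

/-- The hypotheses on the involutions of `H`. -/
structure Setting (H : Subgroup G) (t : G) : Prop where
  t_mem : t ∈ H
  t_ord : orderOf t = 2
  ti : ∀ u ∈ H, (∃ k, orderOf u = 2 ^ k) → u ≠ 1 → ∀ g : G, g * u * g⁻¹ ∈ H → g ∈ H
  conjugate : ∀ i ∈ H, orderOf i = 2 → ∃ h ∈ H, h * t * h⁻¹ = i
  comm : ∀ i ∈ H, ∀ j ∈ H, orderOf i = 2 → orderOf j = 2 → Commute i j

variable {H : Subgroup G} {t : G}

theorem Setting.centralizer_le (S : Setting H t) {u : G} (hu : u ∈ H)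
    (h2 : ∃ k, orderOf u = 2 ^ k) (h1 : u ≠ 1) : Subgroup.centralizer ({u} : Set G) ≤ H := by
  intro g hg
  refine S.ti u hu h2 h1 g ?_
  rw [show g * u * g⁻¹ = u by
    rw [Subgroup.mem_centralizer_singleton_iff.1 hg, mul_inv_cancel_right]]
  exact hu

theorem orderOf_conj' (g x : G) : orderOf (g * x * g⁻¹) = orderOf x := by
  rw [← MulAut.conj_apply, MulEquiv.orderOf_eq]

/-- An element of even order has a power of order two. -/
theorem exists_pow_involution [Finite G] {h : G} (he : 2 ∣ orderOf h) :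
    ∃ k, orderOf (h ^ k) = 2 := by
  obtain ⟨k, hk⟩ := he
  have hpos := orderOf_pos h
  refine ⟨k, ?_⟩
  rw [orderOf_pow' h (by omega), hk, Nat.gcd_mul_left_left, Nat.mul_div_cancel _ (by omega)]

/-- A two-singular element of `H` is moved into `H` only by elements of `H`. -/
theorem Setting.mem_of_singular [Finite G] (S : Setting H t) {h : G} (hh : h ∈ H)
    (he : 2 ∣ orderOf h) {g : G} (hg : g * h * g⁻¹ ∈ H) : g ∈ H := by
  obtain ⟨k, hk⟩ := exists_pow_involution he
  refine S.ti (h ^ k) (pow_mem hh k) ⟨1, by simpa using hk⟩ ?_ g ?_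
  · intro h1
    simp [h1] at hk
  · simpa [conj_pow] using pow_mem hg k

/-- An element of `H` of even order, other than an involution, is no product of two involutions
conjugate to `t`; two such involutions with product in `H` lie in `H`. -/
theorem Setting.mem_of_product [Finite G] (S : Setting H t) {h i j : G} (hh : h ∈ H)
    (he : 2 ∣ orderOf h) (hi : orderOf i = 2) (hj : orderOf j = 2) (hij : i * j = h) :
    i ∈ H ∧ j ∈ H ∧ orderOf h = 2 := by
  have hi1 : i * i = 1 := by rw [← sq, ← hi, pow_orderOf_eq_one]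
  have hj1 : j * j = 1 := by rw [← sq, ← hj, pow_orderOf_eq_one]
  have hiinv : i⁻¹ = i := inv_eq_of_mul_eq_one_right hi1
  obtain ⟨k, hk⟩ := exists_pow_involution he
  have hinv : i * h * i⁻¹ = h⁻¹ := by
    rw [← hij, mul_inv_rev, hiinv, inv_eq_of_mul_eq_one_right hj1]
    rw [← mul_assoc i i j, hi1, one_mul]
  have hiH : i ∈ H := by
    refine S.ti (h ^ k) (pow_mem hh k) ⟨1, by simpa using hk⟩ (fun h1 => by simp [h1] at hk) i ?_
    rw [← conj_pow, hinv, inv_pow]
    exact inv_mem (pow_mem hh k)
  have hjH : j ∈ H := by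
    rw [show j = i⁻¹ * h by rw [← hij, inv_mul_cancel_left]]
    exact mul_mem (inv_mem hiH) hh
  refine ⟨hiH, hjH, ?_⟩
  have hc := S.comm i hiH j hjH hi hj
  have hsq : h ^ 2 = 1 := by
    rw [← hij, hc.mul_pow, sq, sq, hi1, hj1, one_mul]
  exact Nat.dvd_antisymm (orderOf_dvd_of_pow_eq_one hsq) he

variable [Fintype G]

open scoped Classical in
/-- The involutions of `H`. -/
noncomputable def invs (H : Subgroup G) : Finset G :=
  univ.filter fun i => i ∈ H ∧ orderOf i = 2

open scoped Classical in
/-- The elements of `H` of even order. -/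
noncomputable def sing (H : Subgroup G) : Finset G :=
  univ.filter fun h => h ∈ H ∧ 2 ∣ orderOf h

theorem mem_invs {i : G} : i ∈ invs H ↔ i ∈ H ∧ orderOf i = 2 := by
  classical
  simp [invs]

theorem mem_sing {h : G} : h ∈ sing H ↔ h ∈ H ∧ 2 ∣ orderOf h := by
  classical
  simp [sing]

theorem invs_subset_sing : invs H ⊆ sing H := fun i hi =>
  mem_sing.2 ⟨(mem_invs.1 hi).1, by rw [(mem_invs.1 hi).2]⟩

/-- The involutions of `H` form one class of `H`. -/
theorem Setting.card_invs_mul (S : Setting H t) :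
    #(invs H) * Nat.card (Subgroup.centralizer ({t} : Set G)) = Nat.card H := by
  classical
  have hC : Subgroup.centralizer ({t} : Set G) ≤ H :=
    S.centralizer_le S.t_mem ⟨1, by simpa using S.t_ord⟩ fun h1 => by
      have := S.t_ord; simp [h1] at this
  have h1 := card_eq_sum_card_fiberwise (s := univ.filter fun g : G => g ∈ H) (t := invs H)
    (f := fun g => g * t * g⁻¹) (fun g hg => mem_invs.2
      ⟨mul_mem (mul_mem (mem_filter.1 hg).2 S.t_mem) (inv_mem (mem_filter.1 hg).2),
        by rw [orderOf_conj', S.t_ord]⟩)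
  have h2 : ∀ i ∈ invs H, #((univ.filter fun g : G => g ∈ H).filter fun g => g * t * g⁻¹ = i) =
      Nat.card (Subgroup.centralizer ({t} : Set G)) := by
    intro i hi
    obtain ⟨g₀, hg₀, rfl⟩ := S.conjugate i (mem_invs.1 hi).1 (mem_invs.1 hi).2
    rw [Nat.card_eq_fintype_card, Fintype.card_subtype]
    refine card_equiv (Equiv.mulLeft g₀⁻¹) fun g => ?_
    simp only [mem_filter, mem_univ, true_and, Equiv.coe_mulLeft,
      Subgroup.mem_centralizer_singleton_iff]
    constructor
    · rintro ⟨-, h⟩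
      calc g₀⁻¹ * g * t = g₀⁻¹ * (g * t * g⁻¹) * g := by group
        _ = t * (g₀⁻¹ * g) := by rw [h]; group
    · intro h
      have hg : g = g₀ * (g₀⁻¹ * g) := by group
      refine ⟨hg ▸ mul_mem hg₀ (hC (Subgroup.mem_centralizer_singleton_iff.2 h)), ?_⟩
      calc g * t * g⁻¹ = g₀ * (g₀⁻¹ * g * t) * g⁻¹ := by group
        _ = g₀ * t * g₀⁻¹ := by rw [h]; group
  rw [sum_congr rfl h2, sum_const, smul_eq_mul] at h1
  rw [← h1, Nat.card_eq_fintype_card, Fintype.card_subtype]

open scoped Classical in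
/-- The number of pairs of conjugates of `t` with product in `sing H`. -/
theorem Setting.sum_pairs_le (S : Setting H t) :
    ∑ h ∈ sing H, Nat.card {a : G // IsConj t a ∧ IsConj t (a⁻¹ * h)} ≤ #(invs H) ^ 2 := by
  have hord : ∀ {a : G}, IsConj t a → orderOf a = 2 := fun {a} ha => by
    obtain ⟨c, rfl⟩ := isConj_iff.1 ha
    rw [orderOf_conj', S.t_ord]
  calc ∑ h ∈ sing H, Nat.card {a : G // IsConj t a ∧ IsConj t (a⁻¹ * h)}
      ≤ ∑ h ∈ sing H, if h ∈ invs H then #(invs H) else 0 := by
        refine sum_le_sum fun h hh => ?_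
        obtain ⟨hhH, he⟩ := mem_sing.1 hh
        rw [Nat.card_eq_fintype_card, Fintype.card_subtype]
        split_ifs with hi
        · refine card_le_card fun a ha => ?_
          obtain ⟨ha1, ha2⟩ := (mem_filter.1 ha).2
          obtain ⟨haH, -, -⟩ := S.mem_of_product hhH he (hord ha1) (hord ha2) (mul_inv_cancel_left a h)
          exact mem_invs.2 ⟨haH, hord ha1⟩
        · refine Nat.le_zero.2 (card_eq_zero.2 (filter_eq_empty_iff.2 fun a _ ha => hi ?_))
          exact mem_invs.2 ⟨hhH, (S.mem_of_product hhH he (hord ha.1) (hord ha.2)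
            (mul_inv_cancel_left a h)).2.2⟩
    _ ≤ #(invs H) ^ 2 := by
        rw [← sum_filter, sum_const, smul_eq_mul, sq]
        exact Nat.mul_le_mul_right _ (card_le_card fun h hh => (mem_filter.1 hh).2)

/-- A pair consisting of an element of odd order and a commuting involution of `H` is determined by
its product. -/
theorem pair_injective {h h' i i' : G} (ho : ¬ 2 ∣ orderOf h) (ho' : ¬ 2 ∣ orderOf h')
    (hi : orderOf i = 2) (hi' : orderOf i' = 2) (hc : Commute h i) (hc' : Commute h' i')
    (e : h * i = h' * i') : h = h' ∧ i = i' := by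
  have : Fact (Nat.Prime 2) := ⟨Nat.prime_two⟩
  have h1 := BlockBasic.pPart_mul_of (p := 2) hc.symm ⟨1, by simpa using hi⟩ ho
  have h2 := BlockBasic.pPart_mul_of (p := 2) hc'.symm ⟨1, by simpa using hi'⟩ ho'
  rw [← hc.eq, e, hc'.eq, h2] at h1
  subst h1
  exact ⟨mul_right_cancel e, rfl⟩

/-- Burnside's count: `|H| ≤ (K + 1) #(sing H) + (#(invs H) - K) #Y`, where `Y` contains the elements of
`sing H` which commute with more than `K` involutions. -/
theorem Setting.card_le (S : Setting H t) {K : ℕ} {Y : Finset G}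
    (hY : ∀ h ∈ sing H, h ∉ Y → ∀ s : Finset G, (∀ i ∈ s, i ∈ invs H ∧ Commute h i) → #s ≤ K) :
    Nat.card H ≤ (K + 1) * #(sing H) + (#(invs H) - K) * #Y := by
  classical
  set Hf := univ.filter fun g : G => g ∈ H with hHf
  set T := fun h : G => (invs H).filter fun i => Commute h i with hT
  have htot : ∑ h ∈ Hf, #(T h) = Nat.card H := by
    rw [← S.card_invs_mul]
    simp only [hT, card_filter]
    rw [sum_comm, ← smul_eq_mul, ← sum_const]
    refine sum_congr rfl fun i hi => ?_
    obtain ⟨g, hg, rfl⟩ := S.conjugate i (mem_invs.1 hi).1 (mem_invs.1 hi).2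
    rw [← card_filter, Nat.card_eq_fintype_card, Fintype.card_subtype]
    refine card_equiv (MulAut.conj g⁻¹).toEquiv fun x => ?_
    have hx : (MulAut.conj g⁻¹).toEquiv x = g⁻¹ * x * g := by simp
    simp only [hHf, mem_filter, mem_univ, true_and, hx, Subgroup.mem_centralizer_singleton_iff]
    constructor
    · rintro ⟨-, h⟩
      calc g⁻¹ * x * g * t = g⁻¹ * (x * (g * t * g⁻¹)) * g := by group
        _ = t * (g⁻¹ * x * g) := by rw [h.eq]; group
    · intro h
      have h' : Commute x (g * t * g⁻¹) := by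
        calc x * (g * t * g⁻¹) = g * (g⁻¹ * x * g * t) * g⁻¹ := by group
          _ = (g * t * g⁻¹) * x := by rw [h]; group
      refine ⟨S.ti (g * t * g⁻¹) (mul_mem (mul_mem hg S.t_mem) (inv_mem hg))
        ⟨1, by rw [orderOf_conj', S.t_ord]; rfl⟩ (fun h1 => ?_) x ?_, h'⟩
      · have := S.t_ord
        rw [← orderOf_conj' g, h1, orderOf_one] at this
        omega
      · rw [h'.eq, mul_inv_cancel_right]
        exact mul_mem (mul_mem hg S.t_mem) (inv_mem hg)
  rw [← htot, ← sum_filter_add_sum_filter_not Hf (fun h => 2 ∣ orderOf h),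
    show Hf.filter (fun h => 2 ∣ orderOf h) = sing H by ext; simp [hHf, mem_sing]]
  have hodd : ∑ h ∈ Hf.filter (fun h => ¬ 2 ∣ orderOf h), #(T h) ≤ #(sing H) := by
    rw [← card_sigma]
    refine card_le_card_of_injOn (fun x => x.1 * x.2) (fun x hx => ?_) (fun x hx y hy e => ?_)
    · obtain ⟨hx1, hx2⟩ := mem_sigma.1 (mem_coe.1 hx)
      simp only [hHf, hT, mem_filter, mem_univ, true_and, mem_invs] at hx1 hx2
      refine mem_coe.2 (mem_sing.2 ⟨mul_mem hx1.1 hx2.1.1, ?_⟩)
      have hco : Nat.Coprime (orderOf x.1) (orderOf x.2) := by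
        rw [hx2.1.2]
        exact (Nat.coprime_comm.1 (Nat.prime_two.coprime_iff_not_dvd.2 hx1.2))
      rw [hx2.2.orderOf_mul_eq_mul_orderOf_of_coprime hco, hx2.1.2]
      exact dvd_mul_left 2 _
    · obtain ⟨hx1, hx2⟩ := mem_sigma.1 (mem_coe.1 hx)
      obtain ⟨hy1, hy2⟩ := mem_sigma.1 (mem_coe.1 hy)
      simp only [hHf, hT, mem_filter, mem_univ, true_and, mem_invs] at hx1 hx2 hy1 hy2
      obtain ⟨e1, e2⟩ := pair_injective hx1.2 hy1.2 hx2.1.2 hy2.1.2 hx2.2 hy2.2 e
      exact Sigma.ext e1 (heq_of_eq e2)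
  have hsing : ∑ h ∈ sing H, #(T h) ≤ K * #(sing H) + (#(invs H) - K) * #Y := by
    calc ∑ h ∈ sing H, #(T h)
        ≤ ∑ h ∈ sing H, (K + if h ∈ Y then #(invs H) - K else 0) := by
          refine sum_le_sum fun h hh => ?_
          split_ifs with hhY
          · have : #(T h) ≤ #(invs H) := card_filter_le _ _
            omega
          · simpa using hY h hh hhY (T h) fun i hi => mem_filter.1 hi
      _ ≤ _ := by
          rw [sum_add_distrib, sum_const, smul_eq_mul, ← sum_filter, sum_const, smul_eq_mul,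
            mul_comm #(sing H) K, mul_comm _ (#(invs H) - K)]
          exact Nat.add_le_add_left (Nat.mul_le_mul_left _ (card_le_card fun h hh => (mem_filter.1 hh).2)) _
  rw [add_mul, one_mul]
  omega

/-- The crude count `|H| ≤ (#(invs H) + 1) #(sing H)`. -/
theorem Setting.card_le' (S : Setting H t) : Nat.card H ≤ (#(invs H) + 1) * #(sing H) := by
  simpa using S.card_le (K := #(invs H)) (Y := ∅)
    fun h _ _ s hs => card_le_card fun i hi => (hs i hi).1

end Cfsg.Agent.H10.SECount
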