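import Cfsg.Agent.H10.SECount.Basic
import Cfsg.Agent.Cores.PrincipalSection
import Cfsg.Agent.Cores.PCore
import Cfsg.Agent.BlockBasic.Kernel
import Cfsg.Agent.H82.PrincipalBlock

/-!
# Averaging over an odd normal subgroup of the centralisers of two-elements

If the centraliser of every two-element of `H` has one two-block modulo `W`, the characters outside
the principal block sum to zero on the two-singular elements of `H`.
-/

set_option autoImplicit false

open scoped ComplexConjugate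
open Finset Cfsg

namespace Cfsg.Agent.H10.SECount

universe u

variable {G : Type u} [Group G]

local notation "C(" u ")" => Subgroup.centralizer ({u} : Set _)

theorem pPart_mem [Finite G] [Fact (Nat.Prime 2)] (H : Subgroup G) {h : G} (hh : h ∈ H) :
    BlockBasic.pPart (p := 2) h ∈ H := by
  set u := BlockBasic.pPart (p := 2) h
  set y := BlockBasic.pReg (p := 2) h
  have hy : ¬ 2 ∣ orderOf y := BlockBasic.not_dvd_orderOf_pReg (p := 2) h
  obtain ⟨e, he⟩ := BlockBasic.exists_orderOf_pPart (p := 2) h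
  have hpow : h ^ orderOf y = u ^ orderOf y := by
    rw [← BlockBasic.pPart_mul_pReg (p := 2) h, (BlockBasic.commute_pPart_pReg h).mul_pow,
      pow_orderOf_eq_one, mul_one]
  obtain ⟨m, hm⟩ := exists_pow_eq_self_of_coprime (x := u) (n := orderOf y)
    (by rw [he]; exact (Nat.Coprime.pow_left e ((Nat.prime_two.coprime_iff_not_dvd).2 hy)).symm)
  rw [← hm, ← hpow]
  exact pow_mem (pow_mem hh _) _

open scoped Classical in
/-- An irreducible character which is not trivial on a normal subgroup sums to zero on its cosets. -/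
theorem sum_coset_eq_zero {K : Type*} [Group K] [Fintype K] (N : Subgroup K) [N.Normal] {χ : K → ℂ}
    (hχ : IsIrrCharacter K χ) (hne : ¬ ∀ n ∈ N, χ n = χ 1) (c : K) :
    ∑ n : N, χ (c * n) = 0 := by
  have hsum : ∑ l ∈ univ.filter (fun x : K => x ∈ N), χ l = 0 := by
    by_contra h
    exact hne fun n hn => H82.eq_one_of_sum_ne_zero N hχ h hn
  obtain ⟨n, ρ, hρ, rfl⟩ := hχ
  set T : Module.End ℂ (Fin n → ℂ) := ∑ m : N, ρ m with hT
  have hcomm : ∀ g, T * ρ g = ρ g * T := fun g => by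
    simp only [hT, Finset.sum_mul, Finset.mul_sum, ← map_mul]
    refine Fintype.sum_equiv (MulAut.conjNormal g⁻¹ : MulAut N).toEquiv _ _ fun m => ?_
    simp [mul_assoc]
  obtain ⟨a, ha⟩ := CharBasic.schur_scalar ρ T hcomm
  have htr : LinearMap.trace ℂ _ T = 0 := by
    rw [hT, map_sum, ← hsum, Finset.sum_subtype (univ.filter fun x : K => x ∈ N) (p := fun x => x ∈ N) (fun x => by simp)
      (fun x => ρ.character x)]
    rfl
  rw [ha, map_smul, LinearMap.trace_id, smul_eq_mul] at htr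
  have hpos := CharBasic.finrank_pos_of_isIrreducible ρ
  have ha0 : a = 0 := (mul_eq_zero.1 htr).resolve_right (by exact_mod_cast hpos.ne')
  calc ∑ m : N, ρ.character (c * m) = LinearMap.trace ℂ _ (ρ c * T) := by
        simp [hT, Finset.mul_sum, map_sum, Representation.character, map_mul]
    _ = 0 := by rw [ha, ha0, zero_smul, mul_zero, map_zero]

theorem not_two_dvd_orderOf_mul {K : Type*} [Group K] [Finite K] (N : Subgroup K) [N.Normal]
    (hN : ¬ 2 ∣ Nat.card N) {v n : K} (hn : n ∈ N) (hv : ¬ 2 ∣ orderOf v) :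
    ¬ 2 ∣ orderOf (v * n) := by
  intro hd
  have h2 : (v * n) ^ orderOf v ∈ N := by
    rw [← QuotientGroup.eq_one_iff, QuotientGroup.mk_pow, QuotientGroup.mk_mul,
      (QuotientGroup.eq_one_iff n).2 hn, mul_one, ← QuotientGroup.mk_pow, pow_orderOf_eq_one,
      QuotientGroup.mk_one]
  have h3 : orderOf (v * n) ∣ orderOf v * Nat.card N := by
    refine orderOf_dvd_of_pow_eq_one ?_
    rw [pow_mul]
    exact congrArg Subtype.val (pow_card_eq_one' (x := (⟨_, h2⟩ : N)))
  rcases Nat.prime_two.dvd_mul.1 (hd.trans h3) with h | h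
  · exact hv h
  · exact hN h

variable {H W : Subgroup G} {t : G} {M : Ideal AlgInt}

/-- The hypotheses on `W`. -/
structure Core (H W : Subgroup G) (M : Ideal AlgInt) : Prop where
  le : W ≤ H
  norm : ∀ h ∈ H, ∀ w ∈ W, h * w * h⁻¹ ∈ W
  odd : Odd (Nat.card W)
  oneBlock : ∀ u ∈ H, (∃ k, orderOf u = 2 ^ k) → u ≠ 1 → ∀ ψ : IrrCharacter ↥C(u),
    (∀ n : ↥C(u), (n : G) ∈ W → (ψ : ↥C(u) → ℂ) n = (ψ : ↥C(u) → ℂ) 1) →
      ψ ∈ principalBlock M ↥C(u)

theorem Core.normal (S : Setting H t) (D : Core H W M) {u : G} (hu : u ∈ H)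
    (h2 : ∃ k, orderOf u = 2 ^ k) (h1 : u ≠ 1) : (W.subgroupOf C(u)).Normal :=
  ⟨fun n hn g => D.norm _ (S.centralizer_le hu h2 h1 g.2) _ hn⟩

theorem Core.not_dvd [Finite G] (D : Core H W M) (u : G) : ¬ 2 ∣ Nat.card (W.subgroupOf C(u)) := by
  intro h
  refine Nat.two_dvd_ne_zero.2 (Nat.odd_iff.1 D.odd) ?_
  refine h.trans ?_
  exact Subgroup.card_dvd_of_injective
    ((C(u)).subtype.comp (W.subgroupOf C(u)).subtype |>.codRestrict W fun x => x.2)
    fun a b e => Subtype.ext (Subtype.ext (congrArg (fun z : W => (z : G)) e))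

variable [Fintype G]

/-- A character of the principal block is constant on `u (C(u) ∩ W)`. -/
theorem Core.principal_apply_mul (S : Setting H t) (D : Core H W M) (hM : IsPModular 2 M) {u : G}
    (hu : u ∈ H) (h2 : ∃ k, orderOf u = 2 ^ k) (h1 : u ≠ 1) {χ : IrrCharacter G}
    (hχ : χ ∈ principalBlock M G) {w : G} (hw : w ∈ W) (hwu : Commute w u) :
    (χ : G → ℂ) (u * w) = (χ : G → ℂ) u := by
  have : Fact (Nat.Prime 2) := ⟨Nat.prime_two⟩
  obtain ⟨e, he⟩ := h2
  have := D.normal S hu ⟨e, he⟩ h1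
  exact Cores.principalBlock_apply_mul hM he hχ (W.subgroupOf C(u)) (D.not_dvd u)
    (y := ⟨w, Subgroup.mem_centralizer_singleton_iff.2 hwu.eq⟩) hw

open scoped Classical in
/-- A character outside the principal block sums to zero on each coset `u v (C(u) ∩ W)`. -/
theorem Core.sum_coset (S : Setting H t) (D : Core H W M) (hM : IsPModular 2 M) {u : G}
    (hu : u ∈ H) (h2 : ∃ k, orderOf u = 2 ^ k) (h1 : u ≠ 1) {ζ : IrrCharacter G}
    (hζ : ζ ∉ principalBlock M G) (y : ↥C(u)) (hy : ¬ 2 ∣ orderOf y) :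
    ∑ n : W.subgroupOf C(u), (ζ : G → ℂ) (u * ((y : G) * ((n : ↥C(u)) : G))) = 0 := by
  have : Fact (Nat.Prime 2) := ⟨Nat.prime_two⟩
  obtain ⟨e, he⟩ := h2
  have := D.normal S hu ⟨e, he⟩ h1
  set θ : ↥C(u) → ℂ := fun c => (ζ : G → ℂ) (u * (c : G)) with hθ
  have hθc : IsClassFunction ↥C(u) θ := Cores.isClassFunction_shift (CharBasic.IsIrr.isClassFunction ζ.2)
  have hprin := Cores.principal_part_eq hM he ζ y hy
  rw [if_neg hζ] at hprin
  set N := W.subgroupOf C(u) with hN
  show ∑ n : N, θ (y * n) = 0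
  conv_lhs => rw [CharBasic.classFunction_expansion hθc]
  simp only [Finset.sum_apply, Pi.smul_apply, smul_eq_mul]
  rw [Finset.sum_comm]
  simp only [← Finset.mul_sum]
  have hval : ∀ ψ : IrrCharacter ↥C(u), ∑ n : N, (ψ : ↥C(u) → ℂ) (y * n) =
      if ψ ∈ principalBlock M ↥C(u) then (Nat.card N : ℂ) * (ψ : ↥C(u) → ℂ) y else 0 := by
    intro ψ
    split_ifs with hψ
    · have hker : ∀ n ∈ N, (ψ : ↥C(u) → ℂ) n = (ψ : ↥C(u) → ℂ) 1 := fun n hn => by
        have h := Cores.principalBlock_apply_mul (G := ↥C(u)) hM (x := 1) (e := 0) (by simp) hψ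
          (N.subgroupOf _) (fun h => D.not_dvd u (h.trans (Subgroup.card_dvd_of_injective
            ((Subgroup.subtype _).comp (N.subgroupOf _).subtype |>.codRestrict N fun x => x.2)
            fun a b e => Subtype.ext (Subtype.ext (congrArg (fun z : N => (z : ↥C(u))) e)))))
          (y := ⟨n, Subgroup.mem_centralizer_singleton_iff.2 (by simp)⟩) hn
        simpa using h
      obtain ⟨K, -, hmem, hmul⟩ := CharBasic.IsChar.exists_kernel (CharBasic.IsIrr.isCharacter ψ.2)
      rw [Finset.sum_congr rfl fun n _ => hmul y _ ((hmem _).2 (hker _ n.2)), Finset.sum_const,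
        nsmul_eq_mul, Nat.card_eq_fintype_card, Finset.card_univ]
    · refine sum_coset_eq_zero N ψ.2 (fun h => hψ ?_) y
      exact D.oneBlock u hu ⟨e, he⟩ h1 ψ fun n hn => h n hn
  simp only [hval, mul_ite, mul_zero, ← Finset.sum_filter]
  rw [Finset.sum_congr rfl (g := fun ψ : IrrCharacter ↥C(u) =>
      (Nat.card N : ℂ) * (classInner θ (ψ : ↥C(u) → ℂ) * (ψ : ↥C(u) → ℂ) y)) fun ψ _ =>
      mul_left_comm _ _ _, ← Finset.mul_sum, hprin, mul_zero]

open scoped Classical in
/-- A character outside the principal block sums to zero on the elements of `H` of even order. -/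
theorem Core.sum_sing (S : Setting H t) (D : Core H W M) (hM : IsPModular 2 M)
    {ζ : IrrCharacter G} (hζ : ζ ∉ principalBlock M G) : ∑ h ∈ sing H, (ζ : G → ℂ) h = 0 := by
  have : Fact (Nat.Prime 2) := ⟨Nat.prime_two⟩
  set pu : G → G := fun h => BlockBasic.pPart (p := 2) h with hpu
  set Wu : G → Finset G := fun u => univ.filter fun w => w ∈ W ∧ Commute w u with hWu
  have hne : ∀ u, (0 : ℕ) < #(Wu u) := fun u => card_pos.2 ⟨1, by simp [hWu]⟩
  have key : ∀ h ∈ sing H, ∀ w ∈ Wu (pu h), h * w ∈ sing H ∧ pu (h * w) = pu h := by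
    intro h hh w hw
    obtain ⟨hhH, he⟩ := mem_sing.1 hh
    obtain ⟨hwW, hwu⟩ := (mem_filter.1 hw).2
    have hu1 : pu h ≠ 1 := fun e => (BlockBasic.pPart_eq_one_iff h).1 e he
    have huH : pu h ∈ H := by
      exact pPart_mem H hhH
    have hN := D.normal S huH (BlockBasic.exists_orderOf_pPart h) hu1
    set v : ↥C(pu h) := ⟨BlockBasic.pReg (p := 2) h, Subgroup.mem_centralizer_singleton_iff.2
      (BlockBasic.commute_pPart_pReg h).symm.eq⟩ with hv
    set n : ↥C(pu h) := ⟨w, Subgroup.mem_centralizer_singleton_iff.2 hwu.eq⟩ with hn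
    have hvn : ¬ 2 ∣ orderOf (v * n) :=
      not_two_dvd_orderOf_mul (W.subgroupOf C(pu h)) (D.not_dvd _) hwW
        (by rw [← Subgroup.orderOf_coe]; exact BlockBasic.not_dvd_orderOf_pReg (p := 2) h)
    have hprod : h * w = pu h * ((v * n : ↥C(pu h)) : G) := by
      show h * w = BlockBasic.pPart (p := 2) h * (BlockBasic.pReg (p := 2) h * w)
      rw [← mul_assoc, BlockBasic.pPart_mul_pReg]
    have hp : pu (h * w) = pu h := by
      rw [hprod]
      exact BlockBasic.pPart_mul_of ((Subgroup.mem_centralizer_singleton_iff.1 (v * n).2).symm : Commute _ _)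
        (BlockBasic.exists_orderOf_pPart h) (by rwa [Subgroup.orderOf_coe])
    refine ⟨mem_sing.2 ⟨mul_mem hhH (D.le hwW), ?_⟩, hp⟩
    by_contra hd
    exact hu1 (hp ▸ (BlockBasic.pPart_eq_one_iff _).2 hd)
  have hzero : ∀ h ∈ sing H, ∑ w ∈ Wu (pu h), (ζ : G → ℂ) (h * w) = 0 := by
    intro h hh
    obtain ⟨hhH, he⟩ := mem_sing.1 hh
    have hu1 : pu h ≠ 1 := fun e => (BlockBasic.pPart_eq_one_iff h).1 e he
    have huH : pu h ∈ H := by
      exact pPart_mem H hhH
    have h0 := D.sum_coset S hM huH (BlockBasic.exists_orderOf_pPart h) hu1 hζ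
      ⟨BlockBasic.pReg (p := 2) h, Subgroup.mem_centralizer_singleton_iff.2
        (BlockBasic.commute_pPart_pReg h).symm.eq⟩
      (by rw [← Subgroup.orderOf_coe]; exact BlockBasic.not_dvd_orderOf_pReg h)
    rw [← h0]
    refine (Finset.sum_bij (M := ℂ) (fun (n : W.subgroupOf C(pu h)) _ => ((n : ↥C(pu h)) : G)) (fun n _ => ?_)
      (fun a _ b _ e => by simpa using e) (fun w hw => ?_) (fun n _ => ?_)).symm
    · exact mem_filter.2 ⟨mem_univ _, n.2, Subgroup.mem_centralizer_singleton_iff.1 (n : ↥C(pu h)).2⟩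
    · obtain ⟨hwW, hwu⟩ := (mem_filter.1 hw).2
      exact ⟨⟨⟨w, Subgroup.mem_centralizer_singleton_iff.2 hwu.eq⟩, hwW⟩, mem_univ _, rfl⟩
    · show (ζ : G → ℂ) (BlockBasic.pPart (p := 2) h * (BlockBasic.pReg (p := 2) h * _)) =
        (ζ : G → ℂ) (h * _)
      rw [← mul_assoc, BlockBasic.pPart_mul_pReg]
  calc ∑ h ∈ sing H, (ζ : G → ℂ) h
      = ∑ x ∈ (sing H).sigma fun h => Wu (pu h), (#(Wu (pu x.1)) : ℂ)⁻¹ * (ζ : G → ℂ) x.1 := by
        rw [sum_sigma]
        refine sum_congr rfl fun h _ => ?_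
        simp only []
        rw [sum_const, nsmul_eq_mul, mul_inv_cancel_left₀ (by exact_mod_cast (hne _).ne')]
    _ = ∑ x ∈ (sing H).sigma fun h => Wu (pu h),
          (#(Wu (pu x.1)) : ℂ)⁻¹ * (ζ : G → ℂ) (x.1 * x.2) := by
        refine sum_nbij' (fun x => ⟨x.1 * x.2, x.2⁻¹⟩) (fun x => ⟨x.1 * x.2, x.2⁻¹⟩) ?_ ?_ ?_ ?_ ?_
        all_goals intro x hx
        · obtain ⟨hx1, hx2⟩ := mem_sigma.1 (mem_coe.1 hx)
          obtain ⟨k1, k2⟩ := key _ hx1 _ hx2
          refine mem_coe.2 (mem_sigma.2 ⟨k1, ?_⟩)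
          simp only [hWu, mem_filter, mem_univ, true_and] at hx2 ⊢
          rw [k2]
          exact ⟨inv_mem hx2.1, hx2.2.inv_left⟩
        · obtain ⟨hx1, hx2⟩ := mem_sigma.1 (mem_coe.1 hx)
          obtain ⟨k1, k2⟩ := key _ hx1 _ hx2
          refine mem_coe.2 (mem_sigma.2 ⟨k1, ?_⟩)
          simp only [hWu, mem_filter, mem_univ, true_and] at hx2 ⊢
          rw [k2]
          exact ⟨inv_mem hx2.1, hx2.2.inv_left⟩
        · simp
        · simp
        · obtain ⟨hx1, hx2⟩ := mem_sigma.1 (mem_coe.1 hx)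
          simp [(key _ hx1 _ hx2).2]
    _ = 0 := by
        rw [sum_sigma]
        refine sum_eq_zero fun h hh => ?_
        simp only []
        rw [← Finset.mul_sum, hzero h hh, mul_zero]

open scoped Classical in
/-- The squares of the values at `t` in the principal block sum to at most `|C(t) : W|`. -/
theorem Core.column_le (S : Setting H t) (D : Core H W M) (hM : IsPModular 2 M) :
    ∑ χ : IrrCharacter G with χ ∈ principalBlock M G, ‖(χ : G → ℂ) t‖ ^ 2 ≤
      (((W.subgroupOf C(t)).index : ℕ) : ℝ) := by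
  have : Fact (Nat.Prime 2) := ⟨Nat.prime_two⟩
  have h1 : t ≠ 1 := fun e => by have := S.t_ord; simp [e] at this
  have := D.normal S S.t_mem ⟨1, by simpa using S.t_ord⟩ h1
  set N := W.subgroupOf C(t) with hN
  have hk := Cores.blockKernel_principal_self hM (u := t) (e := 1) (by simpa using S.t_ord)
  have hsq := Cores.sum_sq_degree_trivial_on N
  have hdeg : ∀ ψ : IrrCharacter ↥C(t), (ψ : ↥C(t) → ℂ) 1 =
      (charDegree (ψ : ↥C(t) → ℂ) : ℂ) := fun ψ => BlockBasic.apply_one_eq_charDegree ψ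
  have hsq' : ∑ ψ ∈ Finset.univ.filter (fun ψ : IrrCharacter ↥C(t) =>
      ∀ n ∈ N, (ψ : ↥C(t) → ℂ) n = (ψ : ↥C(t) → ℂ) 1),
      charDegree (ψ : ↥C(t) → ℂ) ^ 2 = N.index := by
    have h : ((∑ ψ ∈ Finset.univ.filter (fun ψ : IrrCharacter ↥C(t) =>
      ∀ n ∈ N, (ψ : ↥C(t) → ℂ) n = (ψ : ↥C(t) → ℂ) 1),
        charDegree (ψ : ↥C(t) → ℂ) ^ 2 : ℕ) : ℂ) = (N.index : ℂ) := by
      rw [← hsq, Nat.cast_sum]
      refine Finset.sum_congr rfl fun ψ _ => ?_
      rw [hdeg ψ, Nat.cast_pow, sq]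
    exact_mod_cast h
  have hle : ∑ᶠ ψ ∈ principalBlock M ↥C(t), charDegree (ψ : ↥C(t) → ℂ) ^ 2 ≤ N.index := by
    rw [← hsq', finsum_mem_eq_finite_toFinset_sum _ (Set.toFinite _)]
    refine Finset.sum_le_sum_of_subset fun ψ hψ => ?_
    refine mem_filter.2 ⟨mem_univ _, fun n hn => ?_⟩
    have h := Cores.principalBlock_apply_mul (G := ↥C(t)) hM (x := 1) (e := 0) (by simp)
      ((Set.Finite.mem_toFinset _).1 hψ)
      (N.subgroupOf _) (fun h => D.not_dvd t (h.trans (Subgroup.card_dvd_of_injective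
        ((Subgroup.subtype _).comp (N.subgroupOf _).subtype |>.codRestrict N fun x => x.2)
        fun a b e => Subtype.ext (Subtype.ext (congrArg (fun z : N => (z : ↥C(t))) e)))))
      (y := ⟨n, Subgroup.mem_centralizer_singleton_iff.2 (by simp)⟩) hn
    simpa using h
  have hre : ((∑ χ : IrrCharacter G with χ ∈ principalBlock M G, ‖(χ : G → ℂ) t‖ ^ 2 : ℝ) : ℂ) =
      ((∑ᶠ ψ ∈ principalBlock M ↥C(t), charDegree (ψ : ↥C(t) → ℂ) ^ 2 : ℕ) : ℂ) := by
    rw [← hk, BlockBasic.blockKernel, finsum_mem_eq_finite_toFinset_sum _ (Set.toFinite _),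
      Complex.ofReal_sum]
    refine Finset.sum_congr (by ext; simp) fun χ _ => ?_
    rw [Complex.mul_conj', Complex.ofReal_pow]
  rw [← Complex.ofReal_natCast, Complex.ofReal_inj] at hre
  rw [hre]
  exact_mod_cast hle

end Cfsg.Agent.H10.SECount
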