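import Mathlib.Algebra.Module.ZMod
import Mathlib.LinearAlgebra.FiniteDimensional.Basic
import Mathlib.LinearAlgebra.Dimension.StrongRankCondition
import Mathlib.GroupTheory.GroupAction.Basic
import Cfsg.Agent.Cores.Fitting
import Cfsg.Agent.Coprime.Action

/-!
Two elementary facts for the inertia bound of the count: semilinear maps over a regular abelian
group are at most as many as the dimension, and in a solvable group an automorphism of prime order
fixing the Fitting subgroup pointwise is trivial.
-/

set_option autoImplicit false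
set_option linter.style.haveILetI false

open Finset

namespace Cfsg.Agent.H10.SECount

/-- If `A` is abelian and regular on `E - 0`, `|E| = 2 ^ j`, additive maps semilinear with respect to
pairwise different endomorphisms of `A` are at most `j` in number. -/
theorem card_le_exponent {A E ι : Type*} [CommGroup A] [AddCommGroup E] [Finite E] [Fintype ι]
    [DistribMulAction A E] (h2 : ∀ e : E, 2 • e = 0) {t : E} (ht : t ≠ 0)
    (htr : ∀ e : E, e ≠ 0 → ∃ a : A, a • t = e) (hfree : ∀ a : A, a • t = t → a = 1)
    (σ : ι → A →* A) (π : ι → E →+ E) (hπ : ∀ i a, π i (a • t) = σ i a • t)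
    (hσ : Function.Injective σ) {j : ℕ} (hE : Nat.card E = 2 ^ j) : Fintype.card ι ≤ j := by
  classical
  -- the endomorphism with a given value at `t`
  let el : E → A := fun e => if h : e = 0 then 1 else (htr e h).choose
  have hel : ∀ e, e ≠ 0 → el e • t = e := fun e he => by
    simp only [el, dif_neg he]
    exact (htr e he).choose_spec
  let ψ : E → E →+ E := fun v => if v = 0 then 0 else DistribMulAction.toAddMonoidHom E (el v)
  have hψt : ∀ v, ψ v t = v := fun v => by
    by_cases hv : v = 0
    · simp [ψ, hv]
    · simp only [ψ, if_neg hv]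
      exact hel v hv
  have hψcomm : ∀ v (a : A) e, ψ v (a • e) = a • ψ v e := fun v a e => by
    by_cases hv : v = 0
    · simp [ψ, hv]
    · simp only [ψ, if_neg hv, DistribMulAction.toAddMonoidHom_apply, smul_smul, mul_comm]
  have hψeq : ∀ f g : E →+ E, (∀ (a : A) e, f (a • e) = a • f e) →
      (∀ (a : A) e, g (a • e) = a • g e) → f t = g t → f = g := fun f g hf hg h => by
    ext e
    by_cases he : e = 0
    · simp [he]
    · rw [← hel e he, hf, hg, h]
  have hψadd : ∀ u v, ψ (u + v) = ψ u + ψ v := fun u v =>
    hψeq _ _ (hψcomm _) (fun a e => by simp [hψcomm, smul_add]) (by simp [hψt])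
  -- the additive maps attached to tuples
  let L : (ι → E) → (E →+ E) := fun c =>
    { toFun := fun v => ∑ i, ψ (π i v) (c i)
      map_zero' := by simp [ψ]
      map_add' := fun u v => by simp [hψadd, sum_add_distrib] }
  have hne : ∀ a : A, a • t ≠ 0 := fun a h => ht (by simpa using (smul_eq_zero_iff_eq a).mp h)
  have hψval : ∀ i (a : A) e, ψ (π i (a • t)) e = σ i a • e := fun i a e => by
    rw [hπ]
    have hs := hne (σ i a)
    simp only [ψ, if_neg hs, DistribMulAction.toAddMonoidHom_apply]
    congr 1
    refine eq_of_inv_mul_eq_one (hfree _ ?_)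
    rw [mul_smul, inv_smul_eq_iff.mpr]
    exact (hel _ hs).symm
  -- independence of the characters
  have key : ∀ (s : Finset ι) (c : ι → E), (∀ a : A, ∑ i ∈ s, σ i a • c i = 0) → ∀ i ∈ s, c i = 0 := by
    intro s
    induction s using Finset.induction_on with
    | empty => simp
    | insert i₀ s hi₀ ih =>
      intro c h
      have hs : ∀ i ∈ s, c i = 0 := by
        intro i hi
        by_contra hci
        obtain ⟨b, hb⟩ : ∃ b, σ i b ≠ σ i₀ b := by
          by_contra! hcon
          exact hi₀ (hσ (MonoidHom.ext hcon) ▸ hi)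
        have hzero : ∀ a : A, ∑ i ∈ s, σ i a • (σ i b • c i + σ i₀ b • c i) = 0 := by
          intro a
          have e1 := h (a * b)
          have e2 := congrArg (σ i₀ b • ·) (h a)
          simp only [sum_insert hi₀, smul_add, smul_zero, smul_sum, map_mul, mul_smul] at e1 e2
          have e2' : σ i₀ a • σ i₀ b • c i₀ + ∑ i ∈ s, σ i a • σ i₀ b • c i = 0 := by
            rw [← e2]
            congr 1
            · rw [smul_comm]
            · exact sum_congr rfl fun i _ => smul_comm _ _ _
          have e3 := congrArg₂ (· + ·) e1 e2'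
          simp only [add_zero, smul_add] at e3 ⊢
          rw [sum_add_distrib]
          rw [add_add_add_comm, ← two_nsmul, h2, zero_add] at e3
          exact e3
        have h0 := ih _ hzero i hi
        refine hb ?_
        have h0' : σ i b • c i = σ i₀ b • c i := by
          rw [eq_neg_of_add_eq_zero_left h0, neg_eq_iff_add_eq_zero, ← two_nsmul, h2]
        obtain ⟨a, ha⟩ := htr _ hci
        rw [← ha, smul_smul, smul_smul, mul_comm, mul_comm (σ i₀ b)] at h0'
        have h1 : ((σ i₀ b)⁻¹ * σ i b) • t = t := by
          have h2' := congrArg ((a * σ i₀ b)⁻¹ • ·) h0'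
          simp only [smul_smul] at h2'
          rw [inv_mul_cancel, one_smul] at h2'
          rw [show (σ i₀ b)⁻¹ * σ i b = (a * σ i₀ b)⁻¹ * (a * σ i b) by
            rw [mul_inv_rev, mul_assoc, inv_mul_cancel_left]]
          exact h2'
        exact (eq_of_inv_mul_eq_one (hfree _ h1)).symm
      intro i hi
      rcases mem_insert.1 hi with rfl | hi'
      · have h1 := h 1
        rw [sum_insert hi₀, sum_eq_zero fun k hk => by simp [hs k hk], add_zero] at h1
        simpa using h1
      · exact hs i hi'
  have hinj : Function.Injective L := by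
    intro c c' h
    funext i
    refine sub_eq_zero.1 (key univ (fun i => c i - c' i) (fun a => ?_) i (mem_univ i))
    have h1 := DFunLike.congr_fun h (a • t)
    simp only [L, AddMonoidHom.coe_mk, ZeroHom.coe_mk, hψval] at h1
    simp [smul_sub, sum_sub_distrib, h1]
  -- counting
  letI : Module (ZMod 2) E := AddCommGroup.zmodModule h2
  haveI : Module.Finite (ZMod 2) E := Module.Finite.of_finite
  have hr : Module.finrank (ZMod 2) E = j := by
    have h := Module.natCard_eq_pow_finrank (K := ZMod 2) (V := E)
    rw [hE, Nat.card_zmod] at h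
    exact (Nat.pow_right_injective le_rfl h).symm
  let b := Module.finBasis (ZMod 2) E
  let res : (E →+ E) → (Fin (Module.finrank (ZMod 2) E) → E) := fun f i => f (b i)
  have hres : Function.Injective res := fun f g h => by
    have hl : f.toZModLinearMap 2 = g.toZModLinearMap 2 := b.ext fun i => congrFun h i
    exact AddMonoidHom.ext fun x => LinearMap.congr_fun hl x
  have hc := Nat.card_le_card_of_injective (res ∘ L) (hres.comp hinj)
  rw [Nat.card_fun, Nat.card_fun, hE, Nat.card_eq_fintype_card, Nat.card_fin, hr, ← pow_mul,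
    ← pow_mul] at hc
  have hj : 0 < j := by
    rcases Nat.eq_zero_or_pos j with rfl | h
    · haveI : Subsingleton E := (Nat.card_eq_one_iff_unique.mp (by simpa using hE)).1
      exact absurd (Subsingleton.elim t 0) ht
    · exact h
  exact Nat.le_of_mul_le_mul_left ((Nat.pow_le_pow_iff_right one_lt_two).mp hc) hj

open Subgroup in
/-- An element of prime order acting on a solvable group of coprime order and centralising its
Fitting subgroup centralises it. -/
theorem commute_of_fitting {X : Type*} [Group X] [Finite X] {K : Subgroup X} [Group.IsSolvable K]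
    {x : X} {p : ℕ} (hp : p.Prime) (hx : orderOf x = p) (hxK : x ∈ normalizer (K : Set X))
    (hpK : ¬ p ∣ Nat.card K)
    (hF : ∀ f ∈ Cfsg.fittingSubgroup K, Commute x (f : X)) {k : X} (hk : k ∈ K) : Commute x k := by
  haveI hFn : (Cfsg.fittingSubgroup K).Normal := Subgroup.sSup_normal _ fun _ h => h.1
  set z : K := ⟨(x * k * x⁻¹) * k⁻¹, mul_mem ((mem_normalizer_iff.mp hxK k).mp hk) (inv_mem hk)⟩
    with hz
  have hzF : z ∈ Cfsg.fittingSubgroup K := by
    refine Cores.centralizer_fittingSubgroup_le (mem_centralizer_iff.mpr fun f hf => ?_)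
    have h1 := hF f hf
    have h2 := hF _ (hFn.conj_mem f hf (⟨k, hk⟩ : K)⁻¹)
    refine Subtype.ext ?_
    simp only [Subgroup.coe_mul, Subgroup.coe_inv, inv_inv] at h2 ⊢
    show (f : X) * (x * k * x⁻¹ * k⁻¹) = x * k * x⁻¹ * k⁻¹ * f
    calc (f : X) * (x * k * x⁻¹ * k⁻¹) = (f * x) * k * x⁻¹ * k⁻¹ := by group
      _ = x * (f * k) * x⁻¹ * k⁻¹ := by rw [← h1.eq]; group
      _ = x * k * (k⁻¹ * f * k * x⁻¹) * k⁻¹ := by group
      _ = x * k * (x⁻¹ * (k⁻¹ * f * k)) * k⁻¹ := by rw [← h2.inv_left.eq]
      _ = x * k * x⁻¹ * k⁻¹ * f := by group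
  have hxz : Commute x (z : X) := hF z hzF
  have hiter : ∀ n : ℕ, x ^ n * k * (x ^ n)⁻¹ = (z : X) ^ n * k := by
    intro n
    induction n with
    | zero => simp
    | succ n ih =>
      calc x ^ (n + 1) * k * (x ^ (n + 1))⁻¹ = x * (x ^ n * k * (x ^ n)⁻¹) * x⁻¹ := by
            rw [pow_succ']; group
        _ = (x * (z : X) ^ n) * k * x⁻¹ := by rw [ih]; group
        _ = (z : X) ^ n * (x * k * x⁻¹ * k⁻¹) * k := by rw [(hxz.pow_right n).eq]; group
        _ = (z : X) ^ (n + 1) * k := by rw [pow_succ]
  have hzp : (z : X) ^ p = 1 := by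
    have h := hiter p
    rw [← hx, pow_orderOf_eq_one, one_mul, inv_one, mul_one] at h
    rw [← hx]
    exact mul_eq_right.mp h.symm
  have hz1 : (z : X) = 1 := by
    rcases (Nat.dvd_prime hp).mp (orderOf_dvd_of_pow_eq_one hzp) with h | h
    · exact orderOf_eq_one_iff.mp h
    · exact absurd (h ▸ Subgroup.orderOf_dvd_natCard K z.2) hpK
  exact mul_inv_eq_iff_eq_mul.mp (mul_inv_eq_one.mp hz1)

end Cfsg.Agent.H10.SECount
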