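import Cfsg.Agent.H53.SE.PairSylow
import Cfsg.Agent.H10.SECount.Linear

/-!
# The inertia bound

An element of a pair stabiliser fixing a non-trivial linear character of `R` centralises a non-trivial
element of `R`, so it centralises exactly one involution at the point. The invariant part `P` of a
pair stabiliser thus fixes one involution and acts semilinearly on the group of these involutions over
the regular cyclic subgroup, which bounds `|P|` by the dimension.
-/

set_option autoImplicit false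
set_option linter.style.haveILetI false
set_option maxHeartbeats 800000

namespace Cfsg.Agent.H10.SECount

open Subgroup MulAction
open Cfsg.Agent.H39
open Cfsg.Agent.H73.Bender
open Cfsg.Agent.Cores.SE
open Cfsg.Agent.H53.SE

universe u v w

variable {G : Type u} [Group G] [Finite G] {Ω : Type v} [MulAction G Ω] [Finite Ω]
  {S : Subgroup G} {C : Set Ω}

omit [Finite G] in
/-- An element leaving a non-trivial character of the abelian group `R` invariant centralises a
non-trivial element of `R`. -/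
theorem exists_commute_of_invariant {R : Subgroup G} [Finite R] (hRab : IsMulCommutative R)
    {M : Type w} [Group M] {θ : R →* M} (hθ : θ ≠ 1) {y : G}
    (hy : ∀ r ∈ R, y * r * y⁻¹ ∈ R)
    (hinv : ∀ r r' : R, (r' : G) = y * r * y⁻¹ → θ r' = θ r) :
    ∃ r ∈ R, r ≠ 1 ∧ Commute y r := by
  by_contra! hfpf
  let f : R → R := fun r => ⟨y * r * y⁻¹, hy r r.2⟩ * r⁻¹
  have hf : Function.Injective f := fun a b h => by
    have h' : y * a * y⁻¹ * (a : G)⁻¹ = y * b * y⁻¹ * (b : G)⁻¹ := congrArg Subtype.val h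
    have hab : ∀ p q : R, (p : G) * q = q * p := fun p q =>
      congrArg Subtype.val (hRab.is_comm.comm p q)
    by_contra hne
    refine hfpf ((b : G)⁻¹ * a) (mul_mem (inv_mem b.2) a.2) (fun e => hne ?_) ?_
    · exact Subtype.ext (inv_mul_eq_one.mp e).symm
    · refine mul_inv_eq_iff_eq_mul.mp ?_
      calc y * ((b : G)⁻¹ * a) * y⁻¹ = (y * b * y⁻¹)⁻¹ * (y * a * y⁻¹ * (a : G)⁻¹) * a := by group
        _ = (b : G)⁻¹ * a := by rw [h']; group
  refine hθ (MonoidHom.ext fun s => ?_)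
  obtain ⟨r, rfl⟩ := (Finite.injective_iff_surjective.mp hf) s
  show θ (_ * r⁻¹) = 1
  rw [map_mul, map_inv, hinv r ⟨_, hy r r.2⟩ rfl, mul_inv_cancel]

/-- An element of prime order of a pair stabiliser centralising a non-trivial element of `R`
centralises exactly one involution at the point. -/
theorem exists_unique_inv (hS : SE S C) (h2 : RankTwo S) (hF : Faithful S C) (hG : Good S C)
    (hIH : CoreBelow S Ω) {c z : Ω} (hc : c ∈ C) (hz : z ∈ C) (hcz : c ≠ z) {R : Subgroup G}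
    (hR : R ≤ ptStab S c) (hRodd : Odd (Nat.card R)) (hRn : ptStab S c ≤ normalizer (R : Set G))
    (hR1 : R ≠ ⊥) (hRab : IsMulCommutative R) {q : ℕ} [Fact q.Prime] {y : G}
    (hy : y ∈ pair S c z) (hyq : orderOf y = q) {r : G} (hr : r ∈ R) (hr1 : r ≠ 1)
    (hyr : Commute y r) :
    ∃ t ∈ S, orderOf t = 2 ∧ t • c = c ∧ Commute y t ∧
      ∀ t' ∈ S, orderOf t' = 2 → t' • c = c → Commute y t' → t' = t := by
  obtain ⟨hyS, hyc, hyz⟩ := mem_pair.mp hy
  obtain ⟨hrS, hrc⟩ := mem_ptStab.mp (hR hr)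
  have hrC : r ∈ centStab S c R := mem_centStab.mpr ⟨mem_ptStab.mp (hR hr), fun s hs =>
    congrArg Subtype.val (hRab.is_comm.comm ⟨s, hs⟩ ⟨r, hr⟩)⟩
  have hdvd : ¬ q ∣ invBar S C c := fun h =>
    hr1 (eq_one_of_commute hS h2 hF hG hIH hc hz hcz hR hRodd hRn hR1 hRab h hy hyq hr hyr)
  have hyP : IsPGroup q (zpowers y) :=
    IsPGroup.of_card (n := 1) (by rw [Nat.card_zpowers, hyq, pow_one])
  let J := {i : G // i ∈ S ∧ orderOf i = 2 ∧ i • c = c}
  have hact : ∀ p : zpowers y, ∀ i : J,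
      (p : G) * i * (p : G)⁻¹ ∈ S ∧ orderOf ((p : G) * i * (p : G)⁻¹) = 2 ∧
        ((p : G) * i * (p : G)⁻¹) • c = c := by
    rintro ⟨p, hp⟩ ⟨i, hi, hi2, hic⟩
    refine ⟨conj_mem_of_mem (zpowers_le.mpr hyS hp) hi, by rw [orderOf_conj, hi2], ?_⟩
    have h' := conj_smul_of_smul (g := p) hic
    rwa [mem_stabilizer_iff.mp ((zpowers_le.mpr (mem_stabilizer_iff.mpr hyc) :
      zpowers y ≤ stabilizer G c) hp)] at h'
  letI : MulAction (zpowers y) J :=
    { smul := fun p i => ⟨(p : G) * i * (p : G)⁻¹, hact p i⟩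
      one_smul := fun i => Subtype.ext
        (show ((1 : zpowers y) : G) * i * ((1 : zpowers y) : G)⁻¹ = i by simp)
      mul_smul := fun p p' i => Subtype.ext
        (show ((p * p' : zpowers y) : G) * i * ((p * p' : zpowers y) : G)⁻¹ =
          p * (p' * i * (p' : G)⁻¹) * (p : G)⁻¹ by simp [mul_assoc]) }
  obtain ⟨⟨t, ht, ht2, htc⟩, hfx⟩ := hyP.nonempty_fixed_point_of_prime_not_dvd_card J
    (by rwa [← invBar_eq_card hF])
  have hty : Commute y t :=
    mul_inv_eq_iff_eq_mul.mp (congrArg Subtype.val (hfx ⟨y, mem_zpowers y⟩))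
  refine ⟨t, ht, ht2, htc, hty, fun t' ht' ht'2 ht'c ht'y => ?_⟩
  by_contra hne
  obtain ⟨i, hi, hi2, hiz, hiy⟩ := exists_inv_other hS hF hG hc hz hcz hy hyP ht ht2 htc hty
  have hcomm : Commute t t' :=
    commute_involutions hS h2 hF hG hc hR hRodd hRn hR1 ht ht' ht2 ht'2 htc ht'c
  -- the line of the centraliser of `y`
  set T : Subgroup G := S ⊓ centralizer {y} with hT
  have hTS : T ≤ S := inf_le_left
  have hmemT : ∀ k : G, k ∈ S → Commute k y → k ∈ T := fun k hk hky =>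
    ⟨hk, mem_centralizer_singleton_iff.mpr hky.eq⟩
  have hcL : c ∈ points T C := ⟨hc, t, hmemT t ht hty.symm, ht2, htc⟩
  have hzL : z ∈ points T C := ⟨hz, i, hmemT i hi hiy.symm, hi2, hiz⟩
  have hline := hS.line hTS hcL hzL hcz
  have hy1 : y ≠ 1 := fun h => (Fact.out : q.Prime).ne_one (by rw [← hyq, h, orderOf_one])
  have hcard : Nat.card T < Nat.card S := by
    by_contra hle
    have hTeq : T = S := Subgroup.eq_of_le_of_card_ge hTS (not_lt.mp hle)
    refine hy1 ((mem_bot (G := G)).mp ?_)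
    rw [← (hF : kernel S C = ⊥)]
    refine mem_kernel.mpr ⟨hyS, fun x hx => ?_⟩
    obtain ⟨k, hk, rfl⟩ := hS.trans hc hx
    have hky : k * y = y * k := mem_centralizer_singleton_iff.mp (hTeq.symm ▸ hk : k ∈ T).2
    rw [← mul_smul, ← hky, mul_smul, hyc]
  have hT2 : RankTwo T := ⟨t, hmemT t ht hty.symm, t', hmemT t' ht' ht'y.symm, ht2, ht'2,
    Ne.symm hne, hcomm⟩
  set R' : Subgroup G := R ⊓ T with hR'
  have hR'le : R' ≤ ptStab T c := fun g hg =>
    mem_ptStab.mpr ⟨hg.2, (mem_ptStab.mp (hR hg.1)).2⟩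
  have hR'n : ptStab T c ≤ normalizer (R' : Set G) := fun g hg => by
    have h := hRn (mem_ptStab.mpr ⟨hTS (mem_ptStab.mp hg).1, (mem_ptStab.mp hg).2⟩)
    have hgT : g ∈ T := (mem_ptStab.mp hg).1
    refine Subgroup.mem_normalizer_iff.mpr fun k => ⟨fun hk => ⟨(Subgroup.mem_normalizer_iff.mp h k).mp
      hk.1, T.mul_mem (T.mul_mem hgT hk.2) (T.inv_mem hgT)⟩, fun hk =>
      ⟨(Subgroup.mem_normalizer_iff.mp h k).mpr hk.1, ?_⟩⟩
    simpa [mul_assoc] using T.mul_mem (T.mul_mem (T.inv_mem hgT) hk.2) hgT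
  have hker := hIH T (points T C) hTS hcard hline hT2 (hG.subline hTS (points_subset T C)) c hcL R'
    hR'le (hRodd.of_dvd_nat (card_dvd_of_le inf_le_left)) hR'n ⟨hr, hmemT r hrS hyr.symm⟩
  exact hr1 (semiregular_centStab hS h2 hF hG hIH hc hR hRodd hRn hR1 hrC hz hcz.symm
    ((mem_kernel.mp hker).2 z hzL))

/-- The invariant part of a pair stabiliser of a non-trivial character of `R`. -/
theorem card_invariant_le (hS : SE S C) (h2 : RankTwo S) (hF : Faithful S C) (hG : Good S C)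
    (hIH : CoreBelow S Ω) {c z : Ω} (hc : c ∈ C) (hz : z ∈ C) (hcz : c ≠ z) {R : Subgroup G}
    (hR : R ≤ ptStab S c) (hRodd : Odd (Nat.card R)) (hRn : ptStab S c ≤ normalizer (R : Set G))
    (hR1 : R ≠ ⊥) (hRab : IsMulCommutative R) {M : Type w} [Group M] {θ : R →* M} (hθ : θ ≠ 1)
    {P : Subgroup G} (hP : P ≤ pair S c z)
    (hinv : ∀ g ∈ P, ∀ r r' : R, (r' : G) = g * r * g⁻¹ → θ r' = θ r) :
    Nat.card P = 1 ∨ (3 ≤ Nat.card P ∧
      (∃ j, 2 ^ j = invBar S C c + 1 ∧ Nat.card P ≤ j) ∧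
      invBar S C c * Nat.card P *
          Nat.card (ptStab S c ⊓ centralizer (invGen S c : Set G) : Subgroup G) ≤
        Nat.card (ptStab S c)) := by
  classical
  by_cases hP1 : P = ⊥
  · exact Or.inl (hP1 ▸ Subgroup.card_bot)
  refine Or.inr ?_
  have hPodd : Odd (Nat.card P) := (hS.odd_pair hc hz hcz).of_dvd_nat (card_dvd_of_le hP)
  have hPpt : P ≤ ptStab S c := fun g hg =>
    mem_ptStab.mpr ⟨(mem_pair.mp (hP hg)).1, (mem_pair.mp (hP hg)).2.1⟩
  have hP3 : 3 ≤ Nat.card P := by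
    have h1 : Nat.card P ≠ 1 := fun h => hP1 (Subgroup.card_eq_one.mp h)
    obtain ⟨k, hk⟩ := hPodd
    omega
  -- every non-trivial element of `P` centralises at most one involution at `c`
  have huniq : ∀ g ∈ P, g ≠ 1 → ∃ g' ∈ zpowers g, g' ≠ 1 ∧ ∃ t ∈ S, orderOf t = 2 ∧ t • c = c ∧
      Commute g' t ∧ ∀ t' ∈ S, orderOf t' = 2 → t' • c = c → Commute g' t' → t' = t := by
    intro g hg hg1
    obtain ⟨q, hq, hqd⟩ := Nat.exists_prime_and_dvd (mt orderOf_eq_one_iff.mp hg1)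
    haveI : Fact q.Prime := ⟨hq⟩
    have ho := orderOf_pow_orderOf_div (orderOf_pos g).ne' hqd
    set g' := g ^ (orderOf g / q) with hg'
    have hg'P : g' ∈ P := pow_mem hg _
    obtain ⟨r, hr, hr1, hrc⟩ := exists_commute_of_invariant hRab hθ
      (fun r hr => (Subgroup.mem_normalizer_iff.mp (hRn (hPpt hg'P)) r).mp hr) (hinv g' hg'P)
    exact ⟨g', pow_mem (mem_zpowers g) _, fun h => hq.ne_one (by rw [← ho, h, orderOf_one]),
      exists_unique_inv hS h2 hF hG hIH hc hz hcz hR hRodd hRn hR1 hRab (hP hg'P) ho hr hr1 hrc⟩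
  have hone : ∀ g ∈ P, g ≠ 1 → ∀ t ∈ S, orderOf t = 2 → t • c = c → Commute g t →
      ∀ t' ∈ S, orderOf t' = 2 → t' • c = c → Commute g t' → t' = t := by
    intro g hg hg1 t ht ht2 htc hgt t' ht' ht'2 ht'c hgt'
    obtain ⟨g', hg', -, t₀, -, -, -, -, hu⟩ := huniq g hg hg1
    obtain ⟨n, rfl⟩ := mem_zpowers_iff.mp hg'
    rw [hu t' ht' ht'2 ht'c (hgt'.zpow_left n), hu t ht ht2 htc (hgt.zpow_left n)]
  -- `P` fixes an involution
  obtain ⟨U, hUP, hU1, hUab, hUn⟩ := exists_abelian_normal hPodd hP1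
  obtain ⟨u, hu, hu1⟩ : ∃ u ∈ U, u ≠ 1 := by
    by_contra! h
    exact hU1 (eq_bot_iff.mpr fun u hu => (mem_bot (G := G)).mpr (h u hu))
  obtain ⟨u', hu', hu'1, t, ht, ht2, htc, hut, hu_uniq⟩ := huniq u (hUP hu) hu1
  have hu'U : u' ∈ U := zpowers_le.mpr hu hu'
  have hconj : ∀ g : G, g ∈ S → g • c = c →
      g * t * g⁻¹ ∈ S ∧ orderOf (g * t * g⁻¹) = 2 ∧ (g * t * g⁻¹) • c = c := fun g hgS hgc =>
    ⟨conj_mem_of_mem hgS ht, by rw [orderOf_conj, ht2], by
      have h := conj_smul_of_smul (g := g) htc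
      rwa [hgc] at h⟩
  have hUt : ∀ v ∈ U, Commute v t := fun v hv => by
    obtain ⟨hvS, hvc⟩ := mem_ptStab.mp (hPpt (hUP hv))
    obtain ⟨h1, h2', h3⟩ := hconj v hvS hvc
    refine mul_inv_eq_iff_eq_mul.mp (hu_uniq _ h1 h2' h3 ?_)
    have hvu : Commute u' v := congrArg Subtype.val (hUab.is_comm.comm ⟨u', hu'U⟩ ⟨v, hv⟩)
    exact (hvu.mul_right hut).mul_right hvu.inv_right
  have hPt : ∀ g ∈ P, Commute g t := fun g hg => by
    obtain ⟨hgS, hgc⟩ := mem_ptStab.mp (hPpt hg)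
    obtain ⟨h1, h2', h3⟩ := hconj g hgS hgc
    have hgU : g ∈ normalizer (U : Set G) := hUn (Subgroup.le_normalizer hg)
    have hv : g⁻¹ * u' * g ∈ U := (Subgroup.mem_normalizer_iff''.mp hgU u').mp hu'U
    refine mul_inv_eq_iff_eq_mul.mp (hu_uniq _ h1 h2' h3 ?_)
    show u' * (g * t * g⁻¹) = g * t * g⁻¹ * u'
    calc u' * (g * t * g⁻¹) = g * ((g⁻¹ * u' * g) * t) * g⁻¹ := by group
      _ = g * (t * (g⁻¹ * u' * g)) * g⁻¹ := by rw [(hUt _ hv).eq]
      _ = g * t * g⁻¹ * u' := by group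
  -- a second involution
  obtain ⟨v₀, hv₀, hv₀2, hne₀, hv₀t⟩ := hS.exists_commute_inv h2 ht ht2
  have hv₀c : v₀ • c = c := hS.fix_of_commute hv₀ ht ht2 hv₀t.symm hc htc
  have hfaith : ∀ g ∈ P, (∀ t' ∈ S, orderOf t' = 2 → t' • c = c → Commute g t') → g = 1 := by
    intro g hg hall
    by_contra hg1
    exact hne₀ (hone g hg hg1 v₀ hv₀ hv₀2 hv₀c (hall v₀ hv₀ hv₀2 hv₀c) t ht ht2 htc (hPt g hg))
  -- the regular subgroup
  have hcomm : CommAt S c := fun s hs s' hs' hs2 hs'2 hsc hs'c =>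
    commute_involutions hS h2 hF hG hc hR hRodd hRn hR1 hs hs' hs2 hs'2 hsc hs'c
  obtain ⟨w₀, hw₀, hw₀2, hw₀c⟩ := hS.exists_swap hc hz hcz
  obtain ⟨A, -, hAD, hAn, hAcyc, hAcard, hAfpf, hAtr, -⟩ :=
    exists_inverted_subgroup hS hF hG hc hz hcz hcomm hw₀ hw₀2 hw₀c
  have hmem := @mem_invGen_iff G _ Ω _ S C _ _ hS h2 hF hG c hc R hR hRodd hRn hR1
  have hNE : ∀ g ∈ pair S c z, ∀ e ∈ invGen S c, g * e * g⁻¹ ∈ invGen S c := fun g hg e he =>
    (Subgroup.mem_normalizer_iff.mp (pair_le_normalizer_invGen c z hg) e).mp he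
  have hEc : ∀ e e' : invGen S c, e * e' = e' * e := by
    rintro ⟨e, he⟩ ⟨e', he'⟩
    rcases hmem.mp he with rfl | ⟨h1, h2', h3⟩
    · exact Subtype.ext (by simp)
    rcases hmem.mp he' with rfl | ⟨h1', h2'', h3'⟩
    · exact Subtype.ext (by simp)
    exact Subtype.ext (hcomm e h1 e' h1' h2' h2'' h3 h3').eq
  letI : CommGroup (invGen S c) := { (inferInstance : Group (invGen S c)) with mul_comm := hEc }
  haveI := hAcyc
  letI : CommGroup A := IsCyclic.commGroup
  let π : pair S c z →* MulAut (invGen S c) :=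
    (Subgroup.normalizerMonoidHom (invGen S c)).comp
      (Subgroup.inclusion (pair_le_normalizer_invGen c z))
  have hπ : ∀ (g : pair S c z) (e : invGen S c), ((π g e : invGen S c) : G) = g * e * (g : G)⁻¹ :=
    fun g e => rfl
  letI : DistribMulAction A (Additive (invGen S c)) :=
    { smul := fun a e => Additive.ofMul (π (Subgroup.inclusion hAD a) e.toMul)
      one_smul := fun e => show Additive.ofMul (π (Subgroup.inclusion hAD 1) e.toMul) = e by simp
      mul_smul := fun a b e => show Additive.ofMul (π (Subgroup.inclusion hAD (a * b)) e.toMul) =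
        Additive.ofMul (π (Subgroup.inclusion hAD a) (π (Subgroup.inclusion hAD b) e.toMul)) by
          rw [map_mul, map_mul]; rfl
      smul_zero := fun a => show Additive.ofMul (π (Subgroup.inclusion hAD a) (1 : invGen S c)) = 0
        by simp
      smul_add := fun a e e' => show Additive.ofMul (π (Subgroup.inclusion hAD a) (e.toMul * e'.toMul))
        = Additive.ofMul (π (Subgroup.inclusion hAD a) e.toMul) +
          Additive.ofMul (π (Subgroup.inclusion hAD a) e'.toMul) by rw [map_mul]; rfl }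
  have hsmul : ∀ (a : A) (e : Additive (invGen S c)),
      (((a • e).toMul : invGen S c) : G) = a * (e.toMul : invGen S c) * (a : G)⁻¹ := fun a e => rfl
  have hext : ∀ e e' : Additive (invGen S c),
      ((e.toMul : invGen S c) : G) = (e'.toMul : invGen S c) → e = e' := fun e e' h =>
    Additive.toMul.injective (Subtype.ext h)
  set tE : Additive (invGen S c) :=
    Additive.ofMul ⟨t, Subgroup.subset_closure ⟨ht, ht2, htc⟩⟩ with htE
  let σ : P → A →* A := fun g =>
    { toFun := fun a => ⟨g * a * (g : G)⁻¹, (Subgroup.mem_normalizer_iff.mp (hAn (hP g.2)) a).mp a.2⟩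
      map_one' := Subtype.ext (by simp)
      map_mul' := fun a b => Subtype.ext (show (g : G) * (a * b : G) * (g : G)⁻¹ =
        g * a * (g : G)⁻¹ * (g * b * (g : G)⁻¹) by group) }
  have hσinj : Function.Injective σ := by
    intro g g' h
    have hcA : ∀ a ∈ A, (g : G) * a * (g : G)⁻¹ = g' * a * (g' : G)⁻¹ := fun a ha =>
      congrArg Subtype.val (DFunLike.congr_fun h ⟨a, ha⟩)
    refine Subtype.ext (inv_mul_eq_one.mp (hfaith _ (mul_mem (inv_mem g.2) g'.2) ?_))
    intro t' ht' ht'2 ht'c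
    obtain ⟨a, ha, rfl⟩ := hAtr t ht ht2 htc t' ht' ht'2 ht'c
    set k := (g : G)⁻¹ * g' with hk
    have hka : Commute k a := by
      show k * a = a * k
      calc k * a = (g : G)⁻¹ * (g' * a * (g' : G)⁻¹) * g' := by rw [hk]; group
        _ = a * k := by rw [← hcA a ha, hk]; group
    exact (hka.mul_right (hPt k (mul_mem (inv_mem g.2) g'.2))).mul_right hka.inv_right
  obtain ⟨j, hj⟩ : ∃ j, Nat.card (invGen S c) = 2 ^ j := by
    refine (IsPGroup.iff_card (G := invGen S c) (p := 2)).mp (fun e => ⟨1, ?_⟩)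
    refine Subtype.ext ?_
    rw [SubgroupClass.coe_pow]
    rcases hmem.mp e.2 with h | h
    · rw [h, one_pow]; rfl
    · rw [pow_one, sq, mul_self_of_orderOf_eq_two h.2.1]; rfl
  haveI : Fintype P := Fintype.ofFinite P
  have hle : Fintype.card P ≤ j := by
    refine card_le_exponent (A := A) (E := Additive (invGen S c)) (t := tE) ?_ ?_ ?_ ?_ σ
      (fun g => (MulEquiv.toAdditive (π (Subgroup.inclusion hP g))).toAddMonoidHom) ?_ hσinj
      (j := j) hj
    · intro e
      refine hext _ _ ?_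
      show (((e.toMul) ^ 2 : invGen S c) : G) = 1
      rw [SubgroupClass.coe_pow]
      rcases hmem.mp e.toMul.2 with h | h
      · rw [h, one_pow]
      · rw [sq, mul_self_of_orderOf_eq_two h.2.1]
    · intro h
      have h1 : t = 1 := congrArg (fun e : Additive (invGen S c) => ((e.toMul : invGen S c) : G)) h
      rw [h1, orderOf_one] at ht2
      exact absurd ht2 (by norm_num)
    · intro e he
      rcases hmem.mp e.toMul.2 with h | ⟨h1, h2', h3⟩
      · exact absurd (hext e 0 h) he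
      · obtain ⟨a, ha, hae⟩ := hAtr t ht ht2 htc _ h1 h2' h3
        exact ⟨⟨a, ha⟩, hext _ _ hae⟩
    · intro a ha
      have h : (a : G) * t * (a : G)⁻¹ = t :=
        congrArg (fun e : Additive (invGen S c) => ((e.toMul : invGen S c) : G)) ha
      exact Subtype.ext (hAfpf a a.2 t ht ht2 htc (mul_inv_eq_iff_eq_mul.mp h))
    · intro g a
      refine hext _ _ ?_
      show (g : G) * (a * t * (a : G)⁻¹) * (g : G)⁻¹ =
        (g : G) * (a : G) * (g : G)⁻¹ * t * ((g : G) * (a : G) * (g : G)⁻¹)⁻¹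
      have e : (g : G)⁻¹ * t * g = t := by
        rw [mul_assoc, ← (hPt g g.2).eq, inv_mul_cancel_left]
      calc (g : G) * (a * t * (a : G)⁻¹) * (g : G)⁻¹
          = g * (a * ((g : G)⁻¹ * t * g) * (a : G)⁻¹) * (g : G)⁻¹ := by rw [e]
        _ = (g : G) * (a : G) * (g : G)⁻¹ * t * ((g : G) * (a : G) * (g : G)⁻¹)⁻¹ := by group
  refine ⟨hP3, ⟨j, ?_, by rwa [Nat.card_eq_fintype_card]⟩, ?_⟩
  · rw [← hj, card_invGen hS h2 hF hG hc hR hRodd hRn hR1]
  -- `A P K` inside the point stabiliser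
  set K : Subgroup G := ptStab S c ⊓ centralizer (invGen S c : Set G) with hK
  have hKt : ∀ k ∈ K, ∀ t' ∈ S, orderOf t' = 2 → t' • c = c → Commute k t' :=
    fun k hk t' h1 h2' h3 =>
      (mem_centralizer_iff.mp hk.2 t' (Subgroup.subset_closure ⟨h1, h2', h3⟩)).symm
  let f : A × P × K → ptStab S c := fun x => ⟨(x.1 : G) * x.2.1 * x.2.2,
    mul_mem (mul_mem (mem_ptStab.mpr ⟨(mem_pair.mp (hAD x.1.2)).1, (mem_pair.mp (hAD x.1.2)).2.1⟩)
      (hPpt x.2.1.2)) x.2.2.2.1⟩
  have hf : Function.Injective f := by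
    rintro ⟨a, p, k⟩ ⟨a', p', k'⟩ h
    have h' : (a : G) * p * k = a' * p' * k' := congrArg Subtype.val h
    have e1 : (a' : G)⁻¹ * a = p' * (k' * (k : G)⁻¹) * (p : G)⁻¹ := by
      calc (a' : G)⁻¹ * a = (a' : G)⁻¹ * (a * p * k) * (k : G)⁻¹ * (p : G)⁻¹ := by group
        _ = p' * (k' * (k : G)⁻¹) * (p : G)⁻¹ := by rw [h']; group
    have hkk : (k' : G) * (k : G)⁻¹ ∈ K := mul_mem k'.2 (inv_mem k.2)
    have ha : a' = a := Subtype.ext (inv_mul_eq_one.mp (hAfpf _ (mul_mem (inv_mem a'.2) a.2) t ht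
      ht2 htc (e1 ▸ ((hPt p' p'.2).mul_left (hKt _ hkk t ht ht2 htc)).mul_left
        (hPt _ (inv_mem p.2)))))
    subst ha
    have e2 : (p' : G)⁻¹ * p = k' * (k : G)⁻¹ := by
      calc (p' : G)⁻¹ * p = (p' : G)⁻¹ * (a' : G)⁻¹ * (a' * p * k) * (k : G)⁻¹ := by group
        _ = k' * (k : G)⁻¹ := by rw [h']; group
    have hp : p' = p := Subtype.ext (inv_mul_eq_one.mp (hfaith _ (mul_mem (inv_mem p'.2) p.2)
      fun t' h1 h2' h3 => e2 ▸ hKt _ hkk t' h1 h2' h3))
    subst hp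
    simp only [mul_right_inj] at h'
    rw [Subtype.ext h']
  have hc' := Nat.card_le_card_of_injective f hf
  rwa [Nat.card_prod, Nat.card_prod, hAcard, ← mul_assoc] at hc'

end Cfsg.Agent.H10.SECount
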