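import Cfsg.Agent.H10.SECount.Inertia
import Cfsg.Agent.Cores.SE.CoreAssembly
import Cfsg.Agent.Cores.SE.CoreElement
import Cfsg.Agent.H53.SE.Cover

/-!
# The inertia bound consumed by the count

When the point stabiliser is the product of the centraliser of `R` in it and a pair stabiliser, the
bound on invariant subgroups of the pair stabiliser gives the bound on inertia groups, and the regular
cyclic subgroup of a pair stabiliser gives the index bounds.
-/

set_option autoImplicit false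
set_option linter.style.haveILetI false

namespace Cfsg.Agent.H10.SECount

open Subgroup MulAction
open Cfsg.Agent.H39
open Cfsg.Agent.H73.Bender
open Cfsg.Agent.Cores.SE
open Cfsg.Agent.H53.SE

universe u v

variable {G : Type u} [Group G] [Finite G] {Ω : Type v} [MulAction G Ω] [Finite Ω]
  {S : Subgroup G} {C : Set Ω}

omit [Finite Ω] in
/-- The odd part of a nilpotent normal subgroup divides the odd core. -/
theorem ordCompl_dvd_card_oddPart {H N : Subgroup G} (hNH : N ≤ H)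
    (hN : H ≤ normalizer (N : Set G)) (hnil : Group.IsNilpotent N) :
    ordCompl[2] (Nat.card N) ∣ Nat.card (oddPart H) := by
  refine (Nat.dvd_iff_prime_pow_dvd_dvd _ _).mpr fun p k hp hk => ?_
  rcases eq_or_ne k 0 with rfl | hk0
  · simp
  haveI : Fact p.Prime := ⟨hp⟩
  have hp2 : p ≠ 2 := by
    rintro rfl
    exact Nat.not_dvd_ordCompl Nat.prime_two Nat.card_pos.ne' ((dvd_pow_self 2 hk0).trans hk)
  obtain ⟨Q, hQ⟩ := Sylow.exists_subgroup_card_pow_prime p (hk.trans (Nat.ordCompl_dvd _ 2))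
  obtain ⟨P, hQP⟩ := (IsPGroup.of_card hQ).exists_le_sylow
  haveI := hnil
  haveI hPn : (P : Subgroup N).Normal :=
    Sylow.normal_of_normalizerCondition Group.normalizerCondition_of_isNilpotent P
  haveI := Sylow.unique_of_normal P hPn
  have hL : (P : Subgroup N).map N.subtype ≤ oddPart H := by
    refine le_oddPart ((map_subtype_le _).trans hNH) ?_ ?_
    · intro g hg
      have key : ∀ g ∈ H, ∀ x ∈ (P : Subgroup N).map N.subtype,
          g * x * g⁻¹ ∈ (P : Subgroup N).map N.subtype := by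
        rintro g hg _ ⟨x, hx, rfl⟩
        set y : N := ⟨g * x * g⁻¹, (Subgroup.mem_normalizer_iff.mp (hN hg) x).mp x.2⟩ with hy
        obtain ⟨i, hi⟩ := P.2 ⟨x, hx⟩
        have hxi : (x : G) ^ p ^ i = 1 := congrArg (fun a : (P : Subgroup N) => ((a : N) : G)) hi
        have hyi : y ^ p ^ i = 1 := Subtype.ext (show (g * x * g⁻¹) ^ p ^ i = 1 by
          rw [conj_pow, hxi, mul_one, mul_inv_cancel])
        obtain ⟨P', hP'⟩ := (show IsPGroup p (zpowers y) from fun a => ⟨i, by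
          obtain ⟨a, ha⟩ := a
          obtain ⟨n, rfl⟩ := mem_zpowers_iff.mp ha
          refine Subtype.ext (show (y ^ n) ^ p ^ i = 1 from ?_)
          rw [← zpow_natCast, ← zpow_mul, mul_comm, zpow_mul, zpow_natCast, hyi, one_zpow]⟩).exists_le_sylow
        exact ⟨y, (Subsingleton.elim P' P) ▸ hP' (mem_zpowers y), rfl⟩
      refine Subgroup.mem_normalizer_iff.mpr fun x => ⟨key g hg x, fun h => ?_⟩
      simpa [mul_assoc] using key g⁻¹ (inv_mem hg) _ h
    · rw [card_map_of_injective N.subtype_injective]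
      obtain ⟨i, hi⟩ := IsPGroup.iff_card.mp P.2
      rw [hi]
      exact (hp.odd_of_ne_two hp2).pow
  calc p ^ k ∣ Nat.card ((P : Subgroup N).map N.subtype) := by
        rw [card_map_of_injective N.subtype_injective, ← hQ]; exact card_dvd_of_le hQP
    _ ∣ _ := card_dvd_of_le hL

/-- The bounds on the index of a point stabiliser. -/
theorem index_bounds (hS : SE S C) (h2 : RankTwo S) (hF : Faithful S C) (hG : Good S C)
    (hIH : CoreBelow S Ω) {c z : Ω} (hc : c ∈ C) (hz : z ∈ C) (hcz : c ≠ z) {R : Subgroup G}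
    (hR : R ≤ ptStab S c) (hRodd : Odd (Nat.card R)) (hRn : ptStab S c ≤ normalizer (R : Set G))
    (hR1 : R ≠ ⊥) (hRab : IsMulCommutative R) :
    (2 * invBar S C c + 1) * (invBar S C c + 1) ≤ (stabIn S c).index := by
  classical
  have hcomm : CommAt S c := fun s hs t ht hs2 ht2 hsc htc =>
    commute_involutions hS h2 hF hG hc hR hRodd hRn hR1 hs ht hs2 ht2 hsc htc
  obtain ⟨w, hw, hw2, hwc⟩ := hS.exists_swap hc hz hcz
  obtain ⟨A, -, hAD, -, -, hAcard, -, -, -⟩ :=
    exists_inverted_subgroup hS hF hG hc hz hcz hcomm hw hw2 hwc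
  have hAodd : Odd (Nat.card A) := (hS.odd_pair hc hz hcz).of_dvd_nat (card_dvd_of_le hAD)
  have hAR : ∀ a ∈ A, ∀ r ∈ R, a * r * a⁻¹ ∈ R := fun a ha r hr =>
    (Subgroup.mem_normalizer_iff.mp (hRn (mem_ptStab.mpr
      ⟨(mem_pair.mp (hAD ha)).1, (mem_pair.mp (hAD ha)).2.1⟩)) r).mp hr
  have hfix : ∀ a ∈ A, ∀ r ∈ R, Commute a r → r ≠ 1 → a = 1 := by
    intro a ha r hr har hr1
    by_contra ha1
    obtain ⟨q, hq, hqd⟩ := Nat.exists_prime_and_dvd (mt orderOf_eq_one_iff.mp ha1)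
    haveI : Fact q.Prime := ⟨hq⟩
    have hqm : q ∣ invBar S C c := by
      rw [← hAcard]
      exact hqd.trans (Subgroup.orderOf_dvd_natCard A ha)
    exact hr1 (eq_one_of_commute hS h2 hF hG hIH hc hz hcz hR hRodd hRn hR1 hRab hqm
      (hAD (pow_mem ha _)) (orderOf_pow_orderOf_div (orderOf_pos a).ne' hqd) hr (har.pow_left _))
  obtain ⟨r₀, hr₀, hr₀1⟩ : ∃ r ∈ R, r ≠ 1 := by
    by_contra! h
    exact hR1 (eq_bot_iff.mpr fun r hr => (mem_bot (G := G)).mpr (h r hr))
  -- `2 m + 1 ≤ |R|`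
  let φl : A → R := fun a => ⟨(a : G) * r₀ * (a : G)⁻¹, hAR a a.2 r₀ hr₀⟩
  let φr : A → R := fun a => ⟨(a : G) * r₀⁻¹ * (a : G)⁻¹, hAR a a.2 _ (inv_mem hr₀)⟩
  let φ : Option (A ⊕ A) → R := fun o => o.elim 1 (Sum.elim φl φr)
  have hφ : Function.Injective φ := by
    have hne : ∀ (a : G) (r : G), r ≠ 1 → a * r * a⁻¹ ≠ 1 := fun a r hr h =>
      hr (conj_eq_one_iff.mp h)
    have hsame : ∀ a b : A, ∀ r ∈ R, r ≠ 1 → (a : G) * r * (a : G)⁻¹ = b * r * (b : G)⁻¹ → a = b := by
      intro a b r hr hr1 h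
      refine Subtype.ext (inv_mul_eq_one.mp (hfix _ (mul_mem (inv_mem b.2) a.2) r hr ?_ hr1)).symm
      show (b : G)⁻¹ * a * r = r * ((b : G)⁻¹ * a)
      calc (b : G)⁻¹ * a * r = (b : G)⁻¹ * (a * r * (a : G)⁻¹) * a := by group
        _ = r * ((b : G)⁻¹ * a) := by rw [h]; group
    have hdiff : ∀ a b : A, (a : G) * r₀ * (a : G)⁻¹ ≠ b * r₀⁻¹ * (b : G)⁻¹ := by
      intro a b h
      set g := (b : G)⁻¹ * a with hg
      have hgA : g ∈ A := mul_mem (inv_mem b.2) a.2
      have e : g * r₀ * g⁻¹ = r₀⁻¹ := by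
        calc g * r₀ * g⁻¹ = (b : G)⁻¹ * (a * r₀ * (a : G)⁻¹) * b := by rw [hg]; group
          _ = r₀⁻¹ := by rw [h]; group
      have e2 : Commute (g * g) r₀ := by
        refine mul_inv_eq_iff_eq_mul.mp ?_
        calc g * g * r₀ * (g * g)⁻¹ = g * (g * r₀ * g⁻¹) * g⁻¹ := by group
          _ = g * r₀⁻¹ * g⁻¹ := by rw [e]
          _ = r₀ := by rw [← conj_inv, e, inv_inv]
      obtain ⟨n, hn⟩ : Odd (orderOf g) := hAodd.of_dvd_nat (Subgroup.orderOf_dvd_natCard A hgA)
      have hgr : Commute g r₀ := by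
        have := e2.pow_left (n + 1)
        rwa [← pow_two, ← pow_mul, show 2 * (n + 1) = orderOf g + 1 by omega, pow_succ,
          pow_orderOf_eq_one, one_mul] at this
      have hsq : r₀ * r₀ = 1 := by
        rw [hgr.eq, mul_inv_cancel_right] at e
        exact mul_eq_one_iff_eq_inv.mpr e
      refine hr₀1 ?_
      by_contra h1
      have ho := Subgroup.orderOf_dvd_natCard R hr₀
      rw [orderOf_eq_two_of_mul_self hsq h1, ← even_iff_two_dvd] at ho
      exact (Nat.not_even_iff_odd.mpr hRodd) ho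
    rintro (_ | a | a) (_ | b | b) h
    · rfl
    · exact absurd (congrArg Subtype.val h).symm (hne _ _ hr₀1)
    · exact absurd (congrArg Subtype.val h).symm (hne _ _ (inv_ne_one.mpr hr₀1))
    · exact absurd (congrArg Subtype.val h) (hne _ _ hr₀1)
    · rw [hsame a b r₀ hr₀ hr₀1 (congrArg Subtype.val h)]
    · exact absurd (congrArg Subtype.val h) (hdiff a b)
    · exact absurd (congrArg Subtype.val h) (hne _ _ (inv_ne_one.mpr hr₀1))
    · exact absurd (congrArg Subtype.val h).symm (hdiff b a)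
    · rw [hsame a b _ (inv_mem hr₀) (inv_ne_one.mpr hr₀1) (congrArg Subtype.val h)]
  have hR' : 2 * invBar S C c + 1 ≤ Nat.card R := by
    have h := Nat.card_le_card_of_injective φ hφ
    rw [Finite.card_option, Nat.card_sum, hAcard] at h
    omega
  -- `|R| (m + 1) ≤ |C_H(R)|`
  have hmem := @mem_invGen_iff G _ Ω _ S C _ _ hS h2 hF hG c hc R hR hRodd hRn hR1
  have hRC : ∀ r ∈ R, r ∈ centStab S c R := fun r hr => mem_centStab.mpr ⟨mem_ptStab.mp (hR hr),
    fun r' hr' => congrArg Subtype.val (hRab.is_comm.comm ⟨r', hr'⟩ ⟨r, hr⟩)⟩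
  have hEC : invGen S c ≤ centStab S c R := (Subgroup.closure_le _).mpr fun t ht =>
    mem_centStab.mpr ⟨⟨ht.1, ht.2.2⟩, fun r hr =>
      commute_of_mem_centStab hS h2 hF hG hc hR hRn hR1 ht.1 ht.2.1 ht.2.2 (hRC r hr)⟩
  let ψ : R × invGen S c → centStab S c R := fun x =>
    ⟨(x.1 : G) * x.2, mul_mem (hRC _ x.1.2) (hEC x.2.2)⟩
  have hψ : Function.Injective ψ := by
    rintro ⟨r, e⟩ ⟨r', e'⟩ h
    have h' : (r : G) * e = r' * e' := congrArg Subtype.val h
    have h'' : (r' : G)⁻¹ * r = e' * (e : G)⁻¹ := by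
      calc (r' : G)⁻¹ * r = (r' : G)⁻¹ * (r * e) * (e : G)⁻¹ := by group
        _ = e' * (e : G)⁻¹ := by rw [h']; group
    have h1 : (r' : G)⁻¹ * r = 1 := by
      rcases hmem.mp (h'' ▸ mul_mem e'.2 (inv_mem e.2)) with h1 | ⟨-, h1, -⟩
      · exact h1
      · have ho := Subgroup.orderOf_dvd_natCard R (mul_mem (inv_mem r'.2) r.2)
        rw [h1, ← even_iff_two_dvd] at ho
        exact absurd ho (Nat.not_even_iff_odd.mpr hRodd)
    have h3 : r' = r := Subtype.ext (inv_mul_eq_one.mp h1)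
    subst h3
    simp only [mul_right_inj] at h'
    rw [Subtype.ext h']
  have hRE : Nat.card R * (invBar S C c + 1) ≤ Nat.card (centStab S c R) := by
    have h := Nat.card_le_card_of_injective ψ hψ
    rwa [Nat.card_prod, card_invGen hS h2 hF hG hc hR hRodd hRn hR1] at h
  -- the index
  obtain ⟨s, hs, hsc⟩ := hS.trans hc hz
  let χ : centStab S c R → S ⧸ stabIn S c := fun k =>
    ((⟨(k : G) * s, mul_mem (mem_centStab.mp k.2).1.1 hs⟩ : S) : S ⧸ stabIn S c)
  have hχ : Function.Injective χ := by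
    intro k k' h
    have h' : ((k : G) * s)⁻¹ * (k' * s) ∈ ptStab S c := mem_subgroupOf.mp (QuotientGroup.eq.mp h)
    have h2' : ((k : G)⁻¹ * k') • z = z := by
      have := (mem_ptStab.mp h').2
      rw [mul_inv_rev, mul_assoc, mul_smul, inv_smul_eq_iff, hsc, ← mul_assoc, mul_smul, hsc] at this
      exact this
    exact Subtype.ext (inv_mul_eq_one.mp (semiregular_centStab hS h2 hF hG hIH hc hR hRodd hRn hR1
      (mul_mem (inv_mem k.2) k'.2) hz hcz.symm h2'))
  have hidx : Nat.card (centStab S c R) ≤ (stabIn S c).index := Nat.card_le_card_of_injective χ hχ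
  exact ((Nat.mul_le_mul_right _ hR').trans hRE).trans hidx

theorem sq_le_two_pow_succ {j : ℕ} (hj : 3 ≤ j) : j * j ≤ 2 ^ j + 1 := by
  induction j, hj using Nat.le_induction with
  | base => norm_num
  | succ j hj ih =>
    have h1 : 2 * j + 1 ≤ 2 ^ j := by
      clear ih
      induction j, hj using Nat.le_induction with
      | base => norm_num
      | succ k hk ih2 => rw [pow_succ]; omega
    rw [pow_succ]
    nlinarith

/-- The bound on inertia groups, given that the point stabiliser is the product of the centraliser of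
`R` and a pair stabiliser. -/
theorem inertiaBound_of_cover (hS : SE S C) (h2 : RankTwo S) (hF : Faithful S C) (hG : Good S C)
    (hIH : CoreBelow S Ω) {c z : Ω} (hc : c ∈ C) (hz : z ∈ C) (hcz : c ≠ z) {R : Subgroup G}
    (hR : R ≤ ptStab S c) (hRodd : Odd (Nat.card R)) (hRn : ptStab S c ≤ normalizer (R : Set G))
    (hR1 : R ≠ ⊥) (hRab : IsMulCommutative R)
    (hcover : ∀ h ∈ ptStab S c, ∃ k ∈ centStab S c R, ∃ d ∈ pair S c z, h = k * d) :
    InertiaBound S c R := by
  classical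
  intro _
  have hm := card_invs_stabIn (C := C) hF c
  have hidx := index_bounds hS h2 hF hG hIH hc hz hcz hR hRodd hRn hR1 hRab
  have hm3 : 3 ≤ invBar S C c := by
    obtain ⟨t, ht, ht2, htc⟩ := hS.exists_inv_at hc
    obtain ⟨s, hs, hs2, hts, hcts⟩ := hS.exists_commute_inv h2 ht ht2
    have hsc : s • c = c := hS.fix_of_commute hs ht ht2 hcts.symm hc htc
    have hm1 : 1 < invBar S C c := by
      rw [invBar_eq_card hF]
      haveI : Nontrivial {t : G // t ∈ S ∧ orderOf t = 2 ∧ t • c = c} :=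
        ⟨⟨t, ht, ht2, htc⟩, ⟨s, hs, hs2, hsc⟩, fun e => hts (congrArg Subtype.val e)⟩
      exact Finite.one_lt_card
    haveI := kerIn_normal hS
    obtain ⟨k, hk⟩ := odd_invBar hS hc
    omega
  haveI : Fact (invBar S C c).minFac.Prime := ⟨Nat.minFac_prime (by omega)⟩
  obtain ⟨x, hxp, hxH, hxz, honly, -, -⟩ := exists_fpf_element hS h2 hF hG hIH hc hz hcz hR hRodd
    hRn hR1 hRab (p := (invBar S C c).minFac) (Nat.minFac_dvd _)
  have hnil := isNilpotent_centStab hS h2 hF hG hIH hc hz hcz hR hRodd hRn hR1 Fact.out hxp hxH hxz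
    honly
  have hodd : ordCompl[2] (Nat.card (centStab S c R)) ≤ Nat.card (coreIn S c) := by
    rw [Nat.card_congr (subgroupOfEquivOfLe ((oddPart_le _).trans
      (fun g hg => (mem_ptStab.mp hg).1 : ptStab S c ≤ S))).toEquiv]
    exact Nat.le_of_dvd Nat.card_pos
      (ordCompl_dvd_card_oddPart inf_le_left (ptStab_le_normalizer_centStab hRn) hnil)
  -- the invariant subgroups
  let Q : ℕ → Prop := fun n => ∃ θ : R →* ℂˣ, θ ≠ 1 ∧ ∃ P : Subgroup G, P ≤ pair S c z ∧
    (∀ g ∈ P, ∀ r r' : R, (r' : G) = g * r * g⁻¹ → θ r' = θ r) ∧ Nat.card P = n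
  set K : Subgroup G := ptStab S c ⊓ centralizer (invGen S c : Set G) with hK
  obtain ⟨σ, hσQ, hσcase⟩ : ∃ σ, (∀ n, Q n → n ≤ σ) ∧ (σ = 1 ∨ (7 ≤ invBar S C c ∧ 3 ≤ σ ∧
      σ ^ 2 ≤ invBar S C c + 2 ∧
      invBar S C c * σ * Nat.card K ≤ Nat.card (ptStab S c))) := by
    have hbd : ∀ n, Q n → n ≤ Nat.card G := by
      rintro n ⟨-, -, P, -, -, rfl⟩
      exact Finite.card_subtype_le _
    by_cases hall : ∀ n, Q n → n ≤ 1
    · exact ⟨1, hall, Or.inl rfl⟩
    push Not at hall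
    obtain ⟨n₀, hn₀, hn₀1⟩ := hall
    refine ⟨Nat.findGreatest Q (Nat.card G), fun n hn => Nat.le_findGreatest (hbd n hn) hn, Or.inr ?_⟩
    have hge := Nat.le_findGreatest (P := Q) (hbd n₀ hn₀) hn₀
    obtain ⟨θ, hθ, P, hP, hinv, hcard⟩ := Nat.findGreatest_spec (P := Q) (hbd n₀ hn₀) hn₀
    rcases card_invariant_le hS h2 hF hG hIH hc hz hcz hR hRodd hRn hR1 hRab hθ hP hinv with
      h | ⟨h3, ⟨j, hj, hPj⟩, hK'⟩
    · omega
    rw [← hcard]
    refine ⟨?_, h3, ?_, hK'⟩
    · have : (2 : ℕ) ^ 3 ≤ 2 ^ j := Nat.pow_le_pow_right (by norm_num) (h3.trans hPj)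
      omega
    · have := sq_le_two_pow_succ (h3.trans hPj)
      have h4 : Nat.card P ^ 2 ≤ j * j := by rw [sq]; exact Nat.mul_le_mul hPj hPj
      omega
  refine ⟨σ, ?_, ?_, ?_⟩
  · intro _ θ' hθ'
    let e : R →* (R.subgroupOf S).subgroupOf (stabIn S c) :=
      { toFun := fun r => ⟨⟨⟨r, (mem_ptStab.mp (hR r.2)).1⟩, mem_subgroupOf.mpr (hR r.2)⟩,
          mem_subgroupOf.mpr (mem_subgroupOf.mpr r.2)⟩
        map_one' := rfl
        map_mul' := fun _ _ => rfl }
    have hθ : θ'.comp e ≠ 1 := fun h => hθ' (MonoidHom.ext fun x => by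
      have hx : e ⟨((x : stabIn S c) : S), mem_subgroupOf.mp (mem_subgroupOf.mp x.2)⟩ = x := rfl
      have h' := DFunLike.congr_fun h ⟨((x : stabIn S c) : S), mem_subgroupOf.mp (mem_subgroupOf.mp x.2)⟩
      rw [MonoidHom.comp_apply, hx] at h'
      exact h'.trans (by simp))
    let ι : stabIn S c →* G := S.subtype.comp (stabIn S c).subtype
    have hι : Function.Injective ι := fun a b h => Subtype.ext (Subtype.ext h)
    set St : Subgroup G := (stab θ').map ι with hSt
    have hStcard : Nat.card St = Nat.card (stab θ') := card_map_of_injective hι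
    have hStH : St ≤ ptStab S c := by
      rintro _ ⟨g, -, rfl⟩
      exact mem_subgroupOf.mp g.2
    have hStinv : ∀ g ∈ St, ∀ r r' : R, (r' : G) = g * r * g⁻¹ → θ'.comp e r' = θ'.comp e r := by
      rintro _ ⟨g, hg, rfl⟩ r r' h
      rw [MonoidHom.comp_apply, MonoidHom.comp_apply, ← mem_stab.mp hg (e r)]
      congr 1
      exact Subtype.ext (Subtype.ext (Subtype.ext h))
    have hCSt : centStab S c R ≤ St := fun k hk => by
      refine ⟨⟨⟨k, (mem_centStab.mp hk).1.1⟩, mem_subgroupOf.mpr hk.1⟩,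
        mem_stab.mpr fun r => congrArg θ' ?_, rfl⟩
      refine Subtype.ext (Subtype.ext (Subtype.ext ?_))
      show k * (((r : stabIn S c) : S) : G) * k⁻¹ = _
      rw [← ((mem_centStab.mp hk).2 _ (mem_subgroupOf.mp (mem_subgroupOf.mp r.2))).eq,
        mul_inv_cancel_right]
    set P : Subgroup G := St ⊓ pair S c z with hP
    have hsplit : Nat.card St = Nat.card (centStab S c R) * Nat.card P := by
      rw [← Nat.card_prod]
      refine (Nat.card_congr (Equiv.ofBijective (fun x : centStab S c R × P =>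
        (⟨(x.1 : G) * x.2, mul_mem (hCSt x.1.2) x.2.2.1⟩ : St)) ⟨?_, ?_⟩)).symm
      · rintro ⟨k, d⟩ ⟨k', d'⟩ h
        have h' : (k : G) * d = k' * d' := congrArg Subtype.val h
        have h'' : (k' : G)⁻¹ * k = d' * (d : G)⁻¹ := by
          calc (k' : G)⁻¹ * k = (k' : G)⁻¹ * (k * d) * (d : G)⁻¹ := by group
            _ = d' * (d : G)⁻¹ := by rw [h']; group
        have h3 : k' = k := Subtype.ext (inv_mul_eq_one.mp (semiregular_centStab hS h2 hF hG hIH hc
          hR hRodd hRn hR1 (mul_mem (inv_mem k'.2) k.2) hz hcz.symm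
          (h'' ▸ (mem_pair.mp (mul_mem d'.2.2 (inv_mem d.2.2))).2.2)))
        subst h3
        simp only [mul_right_inj] at h'
        rw [Subtype.ext h']
      · rintro ⟨g, hg⟩
        obtain ⟨k, hk, d, hd, rfl⟩ := hcover g (hStH hg)
        exact ⟨⟨⟨k, hk⟩, ⟨d, (St.mul_mem_cancel_left (hCSt hk)).mp hg, hd⟩⟩, rfl⟩
    have hPodd : Odd (Nat.card P) :=
      (hS.odd_pair hc hz hcz).of_dvd_nat (card_dvd_of_le inf_le_right)
    have hPσ : Nat.card P ≤ σ :=
      hσQ _ ⟨θ'.comp e, hθ, P, inf_le_right, fun g hg => hStinv g hg.1, rfl⟩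
    rw [← hStcard, hsplit, Nat.ordCompl_mul,
      (Nat.ordCompl_eq_self_iff_zero_or_not_dvd (Nat.card P) Nat.prime_two).mpr (Or.inr (by
        rw [← even_iff_two_dvd]; exact Nat.not_even_iff_odd.mpr hPodd)), mul_comm σ]
    exact Nat.mul_le_mul hodd hPσ
  · rw [hm]
    exact le_trans (Nat.mul_le_mul_right _ (by omega)) hidx
  · rw [hm]
    refine hσcase.imp id fun h => ⟨h.1, h.2.1, h.2.2.1, hidx, K.subgroupOf S, ?_, ?_⟩
    · intro h' hh' hcom
      refine mem_subgroupOf.mpr ⟨mem_subgroupOf.mp hh', mem_centralizer_iff.mpr fun e he => ?_⟩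
      have hle : invGen S c ≤ centralizer ({(h' : G)} : Set G) :=
        (Subgroup.closure_le _).mpr fun t ht => mem_centralizer_singleton_iff.mpr
          (congrArg Subtype.val (hcom ⟨t, ht.1⟩ (mem_invs.2
            ⟨mem_subgroupOf.mpr (mem_ptStab.mpr ⟨ht.1, ht.2.2⟩),
              by rw [Subgroup.orderOf_mk]; exact ht.2.1⟩)).eq).symm
      exact mem_centralizer_singleton_iff.mp (hle he)
    · rw [Nat.card_congr (subgroupOfEquivOfLe
        (inf_le_left.trans fun g hg => (mem_ptStab.mp hg).1 : K ≤ S)).toEquiv,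
        Nat.card_congr (subgroupOfEquivOfLe
        (fun g hg => (mem_ptStab.mp hg).1 : ptStab S c ≤ S)).toEquiv]
      exact h.2.2.2

/-- The second half of the faithful step. -/
theorem inertiaStep : InertiaStep.{u, v} := by
  intro G _ _ Ω _ _ S C hIH hS h2 hF hG _ _ c hc R hR hRodd hRn hR1 hRab hmin hH1
  haveI := kerIn_normal hS
  obtain ⟨z, hz, hcz⟩ : ∃ z ∈ C, c ≠ z := by
    obtain ⟨a, ha, b, hb, hab⟩ := hS.exists_ne
    by_cases h : c = a
    · exact ⟨b, hb, h ▸ hab⟩
    · exact ⟨a, ha, h⟩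
  have hm1 : 1 < invBar S C c := by
    rw [invBar_eq_card hF]
    obtain ⟨t, ht, ht2, htc⟩ := hS.exists_inv_at hc
    obtain ⟨s, hs, hs2, hts, hcts⟩ := hS.exists_commute_inv h2 ht ht2
    haveI : Nontrivial {t : G // t ∈ S ∧ orderOf t = 2 ∧ t • c = c} :=
      ⟨⟨t, ht, ht2, htc⟩, ⟨s, hs, hs2, hS.fix_of_commute hs ht ht2 hcts.symm hc htc⟩,
        fun e => hts (congrArg Subtype.val e)⟩
    exact Finite.one_lt_card
  haveI : Fact (invBar S C c).minFac.Prime := ⟨Nat.minFac_prime hm1.ne'⟩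
  intro _
  exact inertiaBound_of_cover hS h2 hF hG hIH hc hz hcz hR hRodd hRn hR1 hRab
    (exists_centStab_mul_pair hS h2 hF hG hIH hc hz hcz hR hRodd hRn hR1 hRab
      (fun R' h1 h3 h4 => hmin R' h1 h4 h3) (p := (invBar S C c).minFac) (Nat.minFac_dvd _) hH1).1

end Cfsg.Agent.H10.SECount
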